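import Groth.Agent.GenSubLib.Reduced
import Groth.Agent.DensePtsLib.AlgClosed
import Groth.Agent.SubDescLib.Main
import Groth.Agent.GrpFieldLib.Comps
import Groth.Agent.GeomRedFieldLib.Stratify

/-!
# The subgroup generated by a morphism from a geometrically reduced scheme

For a morphism `f : X ⟶ G` to a group scheme over a field, from a geometrically reduced scheme, the
reduced closed subscheme on the closure of all signed words in `f` is a subgroup scheme, geometrically
reduced, and the smallest closed subgroup scheme through which `f` factors.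
-/

set_option autoImplicit false
set_option backward.isDefEq.respectTransparency false

noncomputable section

universe u

open CategoryTheory CategoryTheory.Limits MonoidalCategory CartesianMonoidalCategory AlgebraicGeometry
open scoped MonObj

attribute [-instance] CategoryTheory.Hom.commGroup

namespace Groth.Agent.GenSub

theorem isPullback_whiskerRight_left {S : Scheme.{u}} {A T Y : Over S} (t : T ⟶ A) :
    IsPullback (t ▷ Y).left (fst T Y).left (fst A Y).left t.left := by
  have outer : IsPullback (snd T Y).left (fst T Y).left Y.hom T.hom := (IsPullback.of_hasPullback T.hom Y.hom).flip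
  have right : IsPullback (snd A Y).left (fst A Y).left Y.hom A.hom := (IsPullback.of_hasPullback A.hom Y.hom).flip
  refine IsPullback.of_right ?_ ?_ right
  · rw [← Over.comp_left, whiskerRight_snd, Over.w t]
    exact outer
  · rw [← Over.comp_left, ← Over.comp_left, whiskerRight_fst]

variable {k : Type u} [Field k] {G X : Over (Spec (CommRingCat.of k))} [GrpObj G] (f : X ⟶ G)

variable (X) in
/-- The source of a signed word. -/
def Word : List Bool → Over (Spec (CommRingCat.of k))
  | [] => 𝟙_ _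
  | _ :: l => X ⊗ Word l

/-- A letter. -/
def letter : Bool → (X ⟶ G)
  | true => f
  | false => f⁻¹

/-- A signed word in `f`. -/
def word : ∀ l : List Bool, Word X l ⟶ G
  | [] => 1
  | b :: l => (fst X (Word X l) ≫ letter f b) * (snd X (Word X l) ≫ word l)

/-- The points hit by words. -/
def wordSet : Set G.left := ⋃ l : ULift.{u} (List Bool), Set.range (word f l.down).left.base

theorem range_subset_wordSet {T : Over (Spec (CommRingCat.of k))} (l : List Bool) (s : T ⟶ Word X l) :
    Set.range (s ≫ word f l).left.base ⊆ wordSet f := by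
  rintro _ ⟨t, rfl⟩
  exact Set.mem_iUnion.2 ⟨⟨l⟩, s.left.base t, rfl⟩

theorem exists_word_append : ∀ l l' : List Bool, ∃ m : Word X l ⊗ Word X l' ⟶ Word X (l ++ l'),
    m ≫ word f (l ++ l') = (fst _ _ ≫ word f l) * (snd _ _ ≫ word f l')
  | [], l' => ⟨snd _ _, by
      show snd _ _ ≫ word f l' = (fst _ _ ≫ (1 : _ ⟶ G)) * _
      rw [MonObj.comp_one, one_mul]⟩
  | b :: l, l' => by
      obtain ⟨m, hm⟩ := exists_word_append l l'
      refine ⟨(α_ X (Word X l) (Word X l')).hom ≫ (X ◁ m), ?_⟩
      show ((α_ X (Word X l) (Word X l')).hom ≫ (X ◁ m)) ≫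
          ((fst X (Word X (l ++ l')) ≫ letter f b) * (snd X (Word X (l ++ l')) ≫ word f (l ++ l'))) =
        (fst (X ⊗ Word X l) (Word X l') ≫ ((fst X (Word X l) ≫ letter f b) * (snd X (Word X l) ≫ word f l))) * _
      simp only [MonObj.comp_mul, Category.assoc, whiskerLeft_fst_assoc, whiskerLeft_snd_assoc, hm,
        associator_hom_fst_assoc, associator_hom_snd_fst_assoc, associator_hom_snd_snd_assoc, _root_.mul_assoc]
      rfl

theorem letter_not (b : Bool) : letter f (!b) = (letter f b)⁻¹ := by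
  cases b <;> simp [letter]

theorem exists_word_inv : ∀ l : List Bool, ∃ (l' : List Bool) (ρ : Word X l ⟶ Word X l'),
    ρ ≫ word f l' = (word f l)⁻¹
  | [] => ⟨[], 𝟙 _, by show 𝟙 _ ≫ (1 : _ ⟶ G) = (1 : _ ⟶ G)⁻¹; rw [Category.id_comp, inv_one]⟩
  | b :: l => by
      obtain ⟨l', ρ, hρ⟩ := exists_word_inv l
      obtain ⟨m, hm⟩ := exists_word_append f l' [!b]
      let σ : X ⊗ Word X l ⟶ Word X [!b] := lift (fst X (Word X l)) (toUnit _)
      refine ⟨l' ++ [!b], lift (snd X (Word X l) ≫ ρ) σ ≫ m, ?_⟩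
      have hσ : σ ≫ word f [!b] = (fst X (Word X l) ≫ letter f b)⁻¹ := by
        show lift _ _ ≫ ((fst X (𝟙_ _) ≫ letter f (!b)) * (snd X (𝟙_ _) ≫ (1 : _ ⟶ G))) = _
        simp only [MonObj.comp_mul, MonObj.comp_one, mul_one, lift_fst_assoc, letter_not, GrpObj.comp_inv]
      show (lift (snd X (Word X l) ≫ ρ) σ ≫ m) ≫ word f (l' ++ [!b]) =
        ((fst X (Word X l) ≫ letter f b) * (snd X (Word X l) ≫ word f l))⁻¹
      rw [mul_inv_rev, Category.assoc, hm, MonObj.comp_mul, lift_fst_assoc, lift_snd_assoc, hσ,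
        Category.assoc, hρ, GrpObj.comp_inv]

theorem exists_eq_word (b : Bool) : ∃ s : X ⟶ Word X [b], s ≫ word f [b] = letter f b := by
  refine ⟨lift (𝟙 X) (toUnit X), ?_⟩
  show lift (𝟙 X) (toUnit X) ≫ ((fst X (𝟙_ _) ≫ letter f b) * (snd X (𝟙_ _) ≫ (1 : _ ⟶ G))) = _
  simp only [MonObj.comp_mul, MonObj.comp_one, mul_one, lift_fst_assoc, Category.id_comp]

/-- Words factor through any subgroup through which `f` factors. -/
theorem word_factors {H : Over (Spec (CommRingCat.of k))} [GrpObj H] (i : H ⟶ G) [IsMonHom i] (f' : X ⟶ H)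
    (hf : f' ≫ i = f) : ∀ l, ∃ w : Word X l ⟶ H, w ≫ i = word f l
  | [] => ⟨1, by rw [MonObj.one_comp]; rfl⟩
  | b :: l => by
      obtain ⟨w, hw⟩ := word_factors i f' hf l
      obtain ⟨a, ha⟩ : ∃ a : X ⟶ H, a ≫ i = letter f b := by
        cases b
        · exact ⟨f'⁻¹, by rw [GrpObj.inv_comp, hf]; rfl⟩
        · exact ⟨f', hf⟩
      refine ⟨(fst X (Word X l) ≫ a) * (snd X (Word X l) ≫ w), ?_⟩
      rw [MonObj.mul_comp, Category.assoc, Category.assoc, ha, hw]
      rfl

section

variable [GeometricallyReduced X.hom]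

theorem gr_word : ∀ l : List Bool, GeometricallyReduced (Word X l).hom
  | [] => by
      haveI : Algebra.IsGeometricallyReduced k k := by
        rw [Algebra.isGeometricallyReduced_field_iff]
        exact isReduced_of_injective (Algebra.TensorProduct.rid k k (AlgebraicClosure k)) (AlgEquiv.injective _)
      have h := GeomRedFieldLib.gr_str (k := k) k
      rw [GeomRedFieldLib.str, Algebra.algebraMap_self, CommRingCat.ofHom_id, Spec.map_id] at h
      exact h
  | _ :: l => by
      haveI := gr_word l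
      exact gr_prod X.hom (Word X l).hom

theorem isReduced_word (l : List Bool) : AlgebraicGeometry.IsReduced (Word X l).left :=
  haveI := gr_word (X := X) l
  isReduced_of_gr (Word X l).hom

/-- The reduced closed subscheme on the closure of the words, with its dense family. -/
theorem exists_carrier : ∃ (Γ : Over (Spec (CommRingCat.of k))) (i : Γ ⟶ G),
    IsClosedImmersion i.left ∧ AlgebraicGeometry.IsReduced Γ.left ∧
      Set.range i.left.base = closure (wordSet f) ∧
      ∀ l, ∃ v : Word X l ⟶ Γ, v ≫ i = word f l := by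
  let I := Scheme.IdealSheafData.vanishingIdeal (X := G.left) ⟨closure (wordSet f), isClosed_closure⟩
  haveI : AlgebraicGeometry.IsReduced I.subscheme := GeomRedFieldLib.isReduced_vanishing _
  let Γ : Over (Spec (CommRingCat.of k)) := Over.mk (I.subschemeι ≫ G.hom)
  let i : Γ ⟶ G := Over.homMk I.subschemeι rfl
  haveI : IsClosedImmersion i.left := inferInstanceAs (IsClosedImmersion I.subschemeι)
  have hr : Set.range i.left.base = closure (wordSet f) :=
    (Scheme.IdealSheafData.range_subschemeι _).trans (Scheme.IdealSheafData.coe_support_vanishingIdeal _)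
  refine ⟨Γ, i, inferInstance, ‹_›, hr, fun l => ?_⟩
  haveI := isReduced_word (X := X) l
  refine DensePts.factors_of_range _ i ?_
  rw [hr]
  rintro _ ⟨w, rfl⟩
  exact subset_closure (Set.mem_iUnion.2 ⟨⟨l⟩, w, rfl⟩)

theorem dense_carrier {Γ : Over (Spec (CommRingCat.of k))} (i : Γ ⟶ G) [IsClosedImmersion i.left]
    (hr : Set.range i.left.base = closure (wordSet f)) (v : ∀ l, Word X l ⟶ Γ) (hv : ∀ l, v l ≫ i = word f l) :
    Dense (⋃ l : ULift.{u} (List Bool), Set.range (v l.down).left.base) := by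
  intro x
  rw [i.left.isClosedEmbedding.isInducing.closure_eq_preimage_closure_image, Set.mem_preimage, Set.image_iUnion]
  have : i.left.base x ∈ closure (wordSet f) := hr ▸ ⟨x, rfl⟩
  refine closure_mono ?_ this
  intro y hy
  obtain ⟨l, w, rfl⟩ := Set.mem_iUnion.1 hy
  refine Set.mem_iUnion.2 ⟨l, (v l.down).left.base w, ⟨w, rfl⟩, ?_⟩
  exact congr($(hv l.down).left.base w)

theorem gr_carrier {Γ : Over (Spec (CommRingCat.of k))} (i : Γ ⟶ G) [IsClosedImmersion i.left]
    [AlgebraicGeometry.IsReduced Γ.left]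
    (hr : Set.range i.left.base = closure (wordSet f)) (v : ∀ l, Word X l ⟶ Γ) (hv : ∀ l, v l ≫ i = word f l) :
    GeometricallyReduced Γ.hom :=
  gr_of_dense_family Γ.hom (fun l : ULift.{u} (List Bool) => (v l.down).left)
    (fun l => by rw [Over.w]; exact gr_word l.down) (dense_carrier f i hr v hv)

omit [GeometricallyReduced X.hom] in
/-- Pairs from a dense family are dense in the square. -/
theorem dense_prod {Γ : Over (Spec (CommRingCat.of k))} {σ : Type u} {W : σ → Over (Spec (CommRingCat.of k))}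
    (v : ∀ a, W a ⟶ Γ) (hd : Dense (⋃ a, Set.range (v a).left.base)) :
    Dense (⋃ p : σ × σ, Set.range (v p.1 ⊗ₘ v p.2).left.base) := by
  have h1 : ∀ (Z : Over (Spec (CommRingCat.of k))) (S : Set Z.left), Dense S →
      ∀ A : Over (Spec (CommRingCat.of k)), Dense ((snd A Z).left.base ⁻¹' S) := by
    intro Z S hS A
    haveI : UniversallyOpen A.hom := inferInstance
    haveI : UniversallyOpen (snd A Z).left := by
      rw [Over.snd_left]; infer_instance
    exact hS.preimage (snd A Z).left.isOpenMap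
  have hrange : ∀ (A : Over (Spec (CommRingCat.of k))) (a : σ),
      (snd A Γ).left.base ⁻¹' Set.range (v a).left.base ⊆ Set.range (A ◁ v a).left.base := by
    rintro A a w ⟨z, hz⟩
    obtain ⟨p, hp, -⟩ := Scheme.exists_preimage_of_isPullback
      (FinHom.isPullback_whiskerLeft A (v a)) w z hz.symm
    exact ⟨p, hp⟩
  have hleft : Dense (⋃ a, Set.range (v a ▷ Γ).left.base) := by
    have h2 : Dense ((fst Γ Γ).left.base ⁻¹' ⋃ a, Set.range (v a).left.base) := by
      haveI : UniversallyOpen Γ.hom := inferInstance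
      haveI : UniversallyOpen (fst Γ Γ).left := by rw [Over.fst_left]; infer_instance
      exact hd.preimage (fst Γ Γ).left.isOpenMap
    refine h2.mono ?_
    rw [Set.preimage_iUnion]
    refine Set.iUnion_mono fun a => ?_
    rintro w ⟨z, hz⟩
    obtain ⟨p, hp, -⟩ := Scheme.exists_preimage_of_isPullback
      (isPullback_whiskerRight_left (Y := Γ) (v a)) w z hz.symm
    exact ⟨p, hp⟩
  intro x
  refine closure_minimal ?_ isClosed_closure (hleft x)
  rintro _ ⟨_, ⟨a, rfl⟩, ⟨z, rfl⟩⟩
  have h3 := h1 Γ _ hd (W a)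
  rw [Set.preimage_iUnion] at h3
  have h4 : Dense (⋃ b, Set.range (W a ◁ v b).left.base) := h3.mono (Set.iUnion_mono fun b => hrange (W a) b)
  refine map_mem_closure (v a ▷ Γ).left.continuous (h4 z) ?_
  intro y hy
  obtain ⟨b, q, rfl⟩ := Set.mem_iUnion.1 hy
  refine Set.mem_iUnion.2 ⟨(a, b), q, ?_⟩
  rw [← Scheme.Hom.comp_apply, ← Over.comp_left, MonoidalCategory.tensorHom_def']

/-- The generated subgroup. -/
theorem exists_generated : ∃ (Γ : Over (Spec (CommRingCat.of k))) (_ : GrpObj Γ) (i : Γ ⟶ G),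
    IsMonHom i ∧ IsClosedImmersion i.left ∧ AlgebraicGeometry.IsReduced Γ.left ∧ GeometricallyReduced Γ.hom ∧
      Set.range i.left.base = closure (wordSet f) ∧
      (∀ l, ∃ v : Word X l ⟶ Γ, v ≫ i = word f l) ∧ ∃ f' : X ⟶ Γ, f' ≫ i = f := by
  obtain ⟨Γ, i, hi, hred, hr, hv'⟩ := exists_carrier f
  choose v hv using hv'
  haveI : GeometricallyReduced Γ.hom := gr_carrier f i hr v hv
  haveI : GeometricallyReduced (Γ ⊗ Γ).hom := gr_prod Γ.hom Γ.hom
  haveI : AlgebraicGeometry.IsReduced (Γ ⊗ Γ).left := isReduced_of_gr (Γ ⊗ Γ).hom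
  haveI : Mono i := Over.mono_of_mono_left i
  haveI : AlgebraicGeometry.IsReduced (𝟙_ (Over (Spec (CommRingCat.of k)))).left :=
    inferInstanceAs (AlgebraicGeometry.IsReduced (Spec (CommRingCat.of k)))
  have hd := dense_carrier f i hr v hv
  have key : ∀ {A B : Over (Spec (CommRingCat.of k))} (φ : A ⟶ G) (p : B ⟶ A) (l : List Bool) (s : B ⟶ Word X l),
      p ≫ φ = s ≫ word f l → Set.range p.left.base ⊆ φ.left.base ⁻¹' Set.range i.left.base := by
    rintro A B φ p l s e _ ⟨b, rfl⟩
    rw [Set.mem_preimage, hr]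
    exact subset_closure (range_subset_wordSet f l s ⟨b, congr($(e.symm).left.base b)⟩)
  have hcl : ∀ {A : Over (Spec (CommRingCat.of k))} (φ : A ⟶ G),
      IsClosed (φ.left.base ⁻¹' Set.range i.left.base) := fun φ =>
    i.left.isClosedEmbedding.isClosed_range.preimage φ.left.continuous
  have hm : ∃ m : Γ ⊗ Γ ⟶ Γ, m ≫ i = (fst Γ Γ ≫ i) * (snd Γ Γ ≫ i) := by
    refine DensePts.factors_of_range _ i ?_
    rintro _ ⟨x, rfl⟩
    refine closure_minimal ?_ (hcl _) (dense_prod (fun l : ULift.{u} (List Bool) => v l.down) hd x)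
    refine Set.iUnion_subset fun p => ?_
    obtain ⟨m, hm⟩ := exists_word_append f p.1.down p.2.down
    refine key _ _ _ m ?_
    rw [hm]
    simp only [MonObj.comp_mul, tensorHom_fst_assoc, tensorHom_snd_assoc, hv]
  have he : ∃ e : 𝟙_ (Over (Spec (CommRingCat.of k))) ⟶ Γ, e ≫ i = 1 := ⟨v [], hv []⟩
  have hn : ∃ n : Γ ⟶ Γ, n ≫ i = i⁻¹ := by
    refine DensePts.factors_of_range _ i ?_
    rintro _ ⟨x, rfl⟩
    refine closure_minimal ?_ (hcl _) (hd x)
    refine Set.iUnion_subset fun l => ?_
    obtain ⟨l', ρ, hρ⟩ := exists_word_inv f l.down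
    refine key _ _ _ ρ ?_
    rw [hρ, GrpObj.comp_inv, hv]
  obtain ⟨hG, hmon⟩ := Groth.Agent.SubDesc.exists_grpObj_of_mono i hm he hn
  obtain ⟨s, hs⟩ := exists_eq_word f true
  exact ⟨Γ, hG, i, hmon, hi, hred, ‹_›, hr, fun l => ⟨v l, hv l⟩, s ≫ v [true], by
    rw [Category.assoc, hv, hs]; rfl⟩

omit [GeometricallyReduced X.hom] in
/-- The generated subgroup is contained in every closed subgroup through which `f` factors. -/
theorem le_of_factors {Γ : Over (Spec (CommRingCat.of k))} (i : Γ ⟶ G) [AlgebraicGeometry.IsReduced Γ.left]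
    (hr : Set.range i.left.base = closure (wordSet f)) {H : Over (Spec (CommRingCat.of k))} [GrpObj H]
    (j : H ⟶ G) [IsMonHom j] [IsClosedImmersion j.left] (f' : X ⟶ H) (hf : f' ≫ j = f) :
    ∃ a : Γ ⟶ H, a ≫ j = i := by
  refine DensePts.factors_of_range i j ?_
  rw [hr]
  refine closure_minimal (Set.iUnion_subset fun l => ?_) j.left.isClosedEmbedding.isClosed_range
  obtain ⟨w, hw⟩ := word_factors f j f' hf l.down
  rintro _ ⟨x, rfl⟩
  exact ⟨w.left.base x, congr($(hw).left.base x)⟩

end

end Groth.Agent.GenSub
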