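import Groth.Agent.GenSubLib.Main

/-!
# Words and base change
-/

set_option autoImplicit false
set_option backward.isDefEq.respectTransparency false

noncomputable section

universe u

open CategoryTheory CategoryTheory.Limits MonoidalCategory CartesianMonoidalCategory AlgebraicGeometry MonObj

attribute [-instance] CategoryTheory.Hom.commGroup

namespace Groth.Agent.GenSub

variable {k K : Type u} [Field k] [Field K] (σ : Spec (CommRingCat.of K) ⟶ Spec (CommRingCat.of k))
  {G X : Over (Spec (CommRingCat.of k))} [GrpObj G] (f : X ⟶ G)

theorem map_letter (b : Bool) : (Over.pullback σ).map (letter f b) = letter ((Over.pullback σ).map f) b := by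
  cases b
  · exact map_inv ((Over.pullback σ).homMonoidHom (X := X) (M := G)) f
  · rfl

/-- The base change of a word is a word of the base change, in both directions. -/
theorem exists_word_bc : ∀ l : List Bool,
    (∃ e : Word ((Over.pullback σ).obj X) l ⟶ (Over.pullback σ).obj (Word X l),
      e ≫ (Over.pullback σ).map (word f l) = word ((Over.pullback σ).map f) l) ∧
    (∃ p : (Over.pullback σ).obj (Word X l) ⟶ Word ((Over.pullback σ).obj X) l,
      p ≫ word ((Over.pullback σ).map f) l = (Over.pullback σ).map (word f l))
  | [] => by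
      have h : (Over.pullback σ).map (word f []) = 1 :=
        map_one ((Over.pullback σ).homMonoidHom (X := 𝟙_ _) (M := G))
      refine ⟨⟨Functor.LaxMonoidal.ε (Over.pullback σ), ?_⟩, toUnit _, ?_⟩
      · rw [h, MonObj.comp_one]; rfl
      · rw [h]; exact MonObj.comp_one _
  | b :: l => by
      obtain ⟨⟨e, he⟩, p, hp⟩ := exists_word_bc l
      have hw : (Over.pullback σ).map (word f (b :: l)) =
          ((Over.pullback σ).map (fst X (Word X l)) ≫ letter ((Over.pullback σ).map f) b) *
            ((Over.pullback σ).map (snd X (Word X l)) ≫ (Over.pullback σ).map (word f l)) := by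
        refine (map_mul ((Over.pullback σ).homMonoidHom (X := X ⊗ Word X l) (M := G)) _ _).trans ?_
        show (Over.pullback σ).map (fst X (Word X l) ≫ letter f b) *
          (Over.pullback σ).map (snd X (Word X l) ≫ word f l) = _
        rw [Functor.map_comp, Functor.map_comp, map_letter]
      have h₁ : word ((Over.pullback σ).map f) (b :: l) =
          (fst _ _ ≫ letter ((Over.pullback σ).map f) b) * (snd _ _ ≫ word ((Over.pullback σ).map f) l) := rfl
      refine ⟨⟨((Over.pullback σ).obj X ◁ e) ≫ Functor.LaxMonoidal.μ (Over.pullback σ) X (Word X l), ?_⟩,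
        Functor.OplaxMonoidal.δ (Over.pullback σ) X (Word X l) ≫ ((Over.pullback σ).obj X ◁ p), ?_⟩
      · rw [hw]
        refine (MonObj.comp_mul _ _ _).trans (Eq.trans ?_ h₁.symm)
        refine congr_arg₂ (· * ·) ?_ ?_
        · rw [Category.assoc, Functor.Monoidal.μ_fst_assoc, whiskerLeft_fst_assoc]
        · rw [Category.assoc, Functor.Monoidal.μ_snd_assoc, whiskerLeft_snd_assoc, he]
      · rw [hw]
        refine ((congrArg (_ ≫ ·) h₁).trans (MonObj.comp_mul _ _ _)).trans ?_
        refine congr_arg₂ (· * ·) ?_ ?_
        · rw [Category.assoc, whiskerLeft_fst_assoc, Functor.OplaxMonoidal.δ_fst_assoc]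
        · rw [Category.assoc, whiskerLeft_snd_assoc, hp, Functor.OplaxMonoidal.δ_snd_assoc]

end Groth.Agent.GenSub

namespace Groth.Agent.GenSub

variable {k K : Type u} [Field k] [Field K] (σ : Spec (CommRingCat.of K) ⟶ Spec (CommRingCat.of k))

/-- Points of the base change over the image of a morphism lift to the base change of its source. -/
theorem mem_range_bc {A B : Over (Spec (CommRingCat.of k))} (φ : A ⟶ B) (y : ((Over.pullback σ).obj B).left)
    (h : (pullback.fst B.hom σ).base y ∈ Set.range φ.left.base) :
    y ∈ Set.range ((Over.pullback σ).map φ).left.base := by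
  obtain ⟨a, ha⟩ := h
  have hw : pullback.fst A.hom σ ≫ φ.left = ((Over.pullback σ).map φ).left ≫ pullback.fst B.hom σ := by
    simp [Over.pullback_map_left]
  have hsnd : ((Over.pullback σ).map φ).left ≫ pullback.snd B.hom σ = pullback.snd A.hom σ := by
    simp [Over.pullback_map_left]
  have outer : IsPullback (pullback.fst A.hom σ) (((Over.pullback σ).map φ).left ≫ pullback.snd B.hom σ)
      (φ.left ≫ B.hom) σ := by
    rw [hsnd, Over.w]
    exact IsPullback.of_hasPullback A.hom σ
  have sq : IsPullback (pullback.fst A.hom σ) ((Over.pullback σ).map φ).left φ.left (pullback.fst B.hom σ) :=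
    IsPullback.of_bot outer hw (IsPullback.of_hasPullback B.hom σ)
  obtain ⟨p, -, hp⟩ := Scheme.exists_preimage_of_isPullback sq a y ha
  exact ⟨p, hp⟩

end Groth.Agent.GenSub
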