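import Groth.Agent.GenSubLib.Main
import Groth.Agent.SweepSix.GeomConn
import Groth.Agent.WeilResLib.Equalizer

/-!
# Properties of the smallest subgroup through which a morphism factors
-/

set_option autoImplicit false
set_option backward.isDefEq.respectTransparency false

noncomputable section

universe u

open CategoryTheory CategoryTheory.Limits MonoidalCategory CartesianMonoidalCategory AlgebraicGeometry
open scoped MonObj

attribute [-instance] CategoryTheory.Hom.commGroup

namespace Groth.Agent.GenSub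

variable {k : Type u} [Field k] {G X : Over (Spec (CommRingCat.of k))} [GrpObj G] (f : X ⟶ G)
  [GeometricallyReduced X.hom]

/-- The smallest closed subgroup through which `f` factors is the closure of the words. -/
theorem smallest_props {Γ : Over (Spec (CommRingCat.of k))} [GrpObj Γ] (i : Γ ⟶ G) [IsMonHom i]
    [IsClosedImmersion i.left] (hf : ∃ f' : X ⟶ Γ, f' ≫ i = f)
    (hmin : ∀ (Γ' : Over (Spec (CommRingCat.of k))) (_ : GrpObj Γ') (i' : Γ' ⟶ G), IsMonHom i' →
      IsClosedImmersion i'.left → (∃ f'' : X ⟶ Γ', f'' ≫ i' = f) → ∃ j : Γ ⟶ Γ', j ≫ i' = i) :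
    AlgebraicGeometry.IsReduced Γ.left ∧ GeometricallyReduced Γ.hom ∧
      Set.range i.left.base = closure (wordSet f) ∧ ∀ l, ∃ v : Word X l ⟶ Γ, v ≫ i = word f l := by
  obtain ⟨Γ₀, _, i₀, hm₀, hc₀, hred, hgr, hr, hv, hf₀⟩ := exists_generated f
  haveI := hm₀; haveI := hc₀
  obtain ⟨j, hj⟩ := hmin Γ₀ inferInstance i₀ hm₀ hc₀ hf₀
  obtain ⟨f', hf'⟩ := hf
  obtain ⟨a, ha⟩ := le_of_factors f i₀ hr i f' hf'
  haveI : Mono i := Over.mono_of_mono_left i
  haveI : Mono i₀ := Over.mono_of_mono_left i₀
  have h1 : j ≫ a = 𝟙 Γ := (cancel_mono i).1 (by rw [Category.assoc, ha, hj, Category.id_comp])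
  have h2 : a ≫ j = 𝟙 Γ₀ := (cancel_mono i₀).1 (by rw [Category.assoc, hj, ha, Category.id_comp])
  haveI : IsIso j.left := ((Over.forget _).mapIso ⟨j, a, h1, h2⟩).isIso_hom
  refine ⟨isReduced_of_isOpenImmersion j.left, ?_, ?_, fun l => ?_⟩
  · rw [← Over.w j]
    exact (MorphismProperty.cancel_left_of_respectsIso @GeometricallyReduced _ _).mpr hgr
  · rw [← hr, ← hj, Over.comp_left, Scheme.Hom.comp_base, TopCat.coe_comp,
      Set.range_comp, show Set.range j.left = Set.univ from j.left.homeomorph.surjective.range_eq, Set.image_univ]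
  · obtain ⟨v, hv⟩ := hv l
    exact ⟨v ≫ a, by rw [Category.assoc, ha, hv]⟩

omit [GrpObj G] [GeometricallyReduced X.hom] in
theorem gr_unit : GeometricallyReduced (𝟙_ (Over (Spec (CommRingCat.of k)))).hom := by
  haveI : Algebra.IsGeometricallyReduced k k := by
    rw [Algebra.isGeometricallyReduced_field_iff]
    exact isReduced_of_injective (Algebra.TensorProduct.rid k k (AlgebraicClosure k)) (AlgEquiv.injective _)
  have h := GeomRedFieldLib.gr_str (k := k) k
  rw [GeomRedFieldLib.str, Algebra.algebraMap_self, CommRingCat.ofHom_id, Spec.map_id] at h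
  exact h

omit [GrpObj G] [GeometricallyReduced X.hom] in
theorem gc_unit : GeometricallyConnected (𝟙 (Spec (CommRingCat.of k))) := by
  refine ⟨geometrically_iff_of_commRing_of_isClosedUnderIsomorphisms.mpr fun K _ _ => ?_⟩
  exact (asIso (pullback.snd (𝟙 (Spec (CommRingCat.of k)))
    (Spec.map (CommRingCat.ofHom (algebraMap k K))))).hom.homeomorph.connectedSpace_iff.2
      (inferInstanceAs (ConnectedSpace ↥(Spec (CommRingCat.of K))))

omit [GrpObj G] [GeometricallyReduced X.hom] in
theorem gc_word [GeometricallyConnected X.hom] : ∀ l : List Bool, GeometricallyConnected (Word X l).hom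
  | [] => by
      refine ⟨geometrically_iff_of_commRing_of_isClosedUnderIsomorphisms.mpr fun K _ _ => ?_⟩
      exact (asIso (pullback.snd (𝟙 (Spec (CommRingCat.of k)))
        (Spec.map (CommRingCat.ofHom (algebraMap k K))))).hom.homeomorph.connectedSpace_iff.2
          (inferInstanceAs (ConnectedSpace ↥(Spec (CommRingCat.of K))))
  | _ :: l => by
      haveI := gc_word l
      haveI : GeometricallyConnected (pullback.fst X.hom (Word X l).hom) :=
        MorphismProperty.pullback_fst (P := @GeometricallyConnected) _ _ inferInstance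
      haveI : UniversallyOpen X.hom := inferInstance
      haveI : UniversallyOpen (Word X l).hom := inferInstance
      haveI : UniversallyOpen (pullback.fst X.hom (Word X l).hom) := inferInstance
      exact GeometricallyConnected.comp (pullback.fst X.hom (Word X l).hom) X.hom

omit [GeometricallyReduced X.hom] in
/-- Words at the base point. -/
theorem exists_word_point (x : 𝟙_ (Over (Spec (CommRingCat.of k))) ⟶ X) (hx : x ≫ f = 1) :
    ∀ l : List Bool, ∃ p : 𝟙_ (Over (Spec (CommRingCat.of k))) ⟶ Word X l, p ≫ word f l = 1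
  | [] => ⟨𝟙 _, Category.id_comp _⟩
  | b :: l => by
      obtain ⟨p, hp⟩ := exists_word_point x hx l
      refine ⟨lift x p, ?_⟩
      show lift x p ≫ ((fst X (Word X l) ≫ letter f b) * (snd X (Word X l) ≫ word f l)) = 1
      have hb : x ≫ letter f b = 1 := by
        cases b
        · show x ≫ f⁻¹ = 1
          rw [GrpObj.comp_inv, hx, inv_one]
        · exact hx
      rw [MonObj.comp_mul, lift_fst_assoc, lift_snd_assoc, hb, hp, mul_one]

omit [GeometricallyReduced X.hom] in
theorem isConnected_wordSet [GeometricallyConnected X.hom] (x : 𝟙_ (Over (Spec (CommRingCat.of k))) ⟶ X)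
    (hx : x ≫ f = 1) : _root_.IsConnected (wordSet f) := by
  let e₀ : G.left := (1 : 𝟙_ (Over (Spec (CommRingCat.of k))) ⟶ G).left.base (IsLocalRing.closedPoint k)
  have hmem : ∀ l, e₀ ∈ Set.range (word f l).left.base := fun l => by
    obtain ⟨p, hp⟩ := exists_word_point f x hx l
    exact ⟨p.left.base (IsLocalRing.closedPoint k), congr($(hp).left.base (IsLocalRing.closedPoint k))⟩
  refine ⟨⟨e₀, Set.mem_iUnion.2 ⟨⟨[]⟩, hmem []⟩⟩, ?_⟩
  refine isPreconnected_iUnion ⟨e₀, Set.mem_iInter.2 fun l => hmem l.down⟩ fun l => ?_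
  haveI := gc_word (X := X) l.down
  haveI : Subsingleton ↥(Spec (CommRingCat.of k)) := inferInstanceAs (Subsingleton (PrimeSpectrum k))
  haveI : Nonempty ↥(Spec (CommRingCat.of k)) := inferInstanceAs (Nonempty (PrimeSpectrum k))
  haveI : ConnectedSpace (Word X l.down).left :=
    GeometricallyConnected.connectedSpace_of_subsingleton (f := (Word X l.down).hom)
  exact (isConnected_range (word f l.down).left.continuous).isPreconnected

omit [GrpObj G] [GeometricallyReduced X.hom] in
/-- Morphisms out of a reduced scheme into a separated one agreeing on a dense family are equal. -/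
theorem hom_ext_of_dense {A B : Over (Spec (CommRingCat.of k))} [AlgebraicGeometry.IsReduced A.left]
    [IsSeparated B.hom] {σ : Type u} {W : σ → Over (Spec (CommRingCat.of k))} (v : ∀ a, W a ⟶ A)
    (hd : Dense (⋃ a, Set.range (v a).left.base)) (φ ψ : A ⟶ B) (h : ∀ a, v a ≫ φ = v a ≫ ψ) : φ = ψ := by
  obtain ⟨T, t, ht, hT⟩ := Groth.Agent.WeilRes.exists_eqz φ ψ
  haveI := ht
  haveI : Surjective t.left := ⟨fun x => by
    refine closure_minimal ?_ t.left.isClosedEmbedding.isClosed_range (hd x)
    refine Set.iUnion_subset fun a => ?_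
    obtain ⟨z, hz⟩ := (hT _ (v a)).2 (h a)
    rintro _ ⟨w, rfl⟩
    exact ⟨z.left.base w, congr($(hz).left.base w)⟩⟩
  haveI := isIso_of_isClosedImmersion_of_surjective t.left
  haveI : IsIso ((Over.forget _).map t) := ‹IsIso t.left›
  haveI : IsIso t := isIso_of_reflects_iso t (Over.forget _)
  simpa using (hT A (𝟙 A)).1 ⟨inv t, IsIso.inv_hom_id t⟩

/-- The smallest subgroup through which a morphism factors is commutative if all words commute. -/
theorem isCommMonObj_of_words {Γ : Over (Spec (CommRingCat.of k))} [GrpObj Γ] (i : Γ ⟶ G) [IsMonHom i]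
    [IsClosedImmersion i.left] (hr : Set.range i.left.base = closure (wordSet f))
    [AlgebraicGeometry.IsReduced Γ.left] (v : ∀ l, Word X l ⟶ Γ) (hv : ∀ l, v l ≫ i = word f l)
    (h : ∀ (T : Over (Spec (CommRingCat.of k))) l l' (a : T ⟶ Word X l) (b : T ⟶ Word X l'),
      (a ≫ word f l) * (b ≫ word f l') = (b ≫ word f l') * (a ≫ word f l)) : IsCommMonObj Γ := by
  haveI : GeometricallyReduced Γ.hom := gr_carrier f i hr v hv
  haveI : GeometricallyReduced (Γ ⊗ Γ).hom := gr_prod Γ.hom Γ.hom
  haveI : AlgebraicGeometry.IsReduced (Γ ⊗ Γ).left := isReduced_of_gr (Γ ⊗ Γ).hom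
  haveI : IsSeparated G.hom := Groth.Agent.GrpField.isSeparated_grp (G := G)
  haveI : Mono i := Over.mono_of_mono_left i
  have key : (fst Γ Γ ≫ i) * (snd Γ Γ ≫ i) = (snd Γ Γ ≫ i) * (fst Γ Γ ≫ i) := by
    refine hom_ext_of_dense _ (dense_prod (fun l : ULift.{u} (List Bool) => v l.down) (dense_carrier f i hr v hv))
      _ _ fun p => ?_
    simp only [MonObj.comp_mul, tensorHom_fst_assoc, tensorHom_snd_assoc, hv]
    exact h _ _ _ (fst _ _) (snd _ _)
  refine ⟨?_⟩
  rw [← cancel_mono i, Category.assoc, IsMonHom.mul_hom]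
  have e : (i ⊗ₘ i) ≫ μ[G] = (fst Γ Γ ≫ i) * (snd Γ Γ ≫ i) := by
    rw [Hom.mul_def]; congr 1
  rw [e, MonObj.comp_mul, key]
  congr 1 <;> simp

end Groth.Agent.GenSub
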