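import Groth.Agent.GenSubLib.MaxPoint
import Groth.Agent.SemiAbLib.Points
import Groth.Agent.AlbNormLib.LangMap

/-!
# The generated subgroup is the image of one word
-/

set_option autoImplicit false
set_option backward.isDefEq.respectTransparency false

noncomputable section

universe u

open CategoryTheory CategoryTheory.Limits MonoidalCategory CartesianMonoidalCategory AlgebraicGeometry
  TopologicalSpace MonObj

attribute [-instance] CategoryTheory.Hom.commGroup

namespace Groth.Agent.GenSub

variable {k : Type u} [Field k] [IsAlgClosed k] {G X Γ : Over (Spec (CommRingCat.of k))} [GrpObj G] [GrpObj Γ]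
  [LocallyOfFiniteType G.hom] [LocallyOfFiniteType X.hom] (f : X ⟶ G) (i : Γ ⟶ G) [IsMonHom i]
  [IsClosedImmersion i.left]

/-- A closed subgroup on the closure of the words is covered by one word. -/
theorem exists_surjective_word [QuasiCompact X.hom]
    (hr : Set.range i.left.base = closure (wordSet f)) (hv : ∀ l, ∃ v : Word X l ⟶ Γ, v ≫ i = word f l)
    (hbase : ∀ x : X.left, ∃ y : 𝟙_ (Over (Spec (CommRingCat.of k))) ⟶ X,
      y ≫ f = 1 ∧ y.left.base (IsLocalRing.closedPoint k) ∈ connectedComponent x) :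
    ∃ l : List Bool, Set.range i.left.base ⊆ Set.range (word f l).left.base := by
  classical
  obtain ⟨l, w, hlw⟩ := exists_max_word f hbase
  choose v hv using hv
  haveI : LocallyOfFiniteType Γ.hom := by rw [← Over.w i]; infer_instance
  haveI : IsLocallyNoetherian Γ.left := LocallyOfFiniteType.isLocallyNoetherian Γ.hom
  haveI : JacobsonSpace ↥Γ.left := LocallyOfFiniteType.jacobsonSpace Γ.hom
  haveI : IsSeparated Γ.hom := Groth.Agent.GrpField.isSeparated_grp (G := Γ)
  have hW : ∀ l, LocallyOfFiniteType (Word X l).hom ∧ QuasiCompact (Word X l).hom := by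
    intro l
    induction l with
    | nil => exact ⟨inferInstanceAs (LocallyOfFiniteType (𝟙 (Spec (CommRingCat.of k)))),
        inferInstanceAs (QuasiCompact (𝟙 (Spec (CommRingCat.of k))))⟩
    | cons b l ih =>
      haveI := ih.1; haveI := ih.2
      haveI : LocallyOfFiniteType (Limits.pullback.fst X.hom (Word X l).hom) :=
        MorphismProperty.pullback_fst _ _ inferInstance
      haveI : QuasiCompact (Limits.pullback.fst X.hom (Word X l).hom) :=
        MorphismProperty.pullback_fst _ _ inferInstance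
      refine ⟨?_, ?_⟩
      · show LocallyOfFiniteType (Limits.pullback.fst X.hom (Word X l).hom ≫ X.hom)
        infer_instance
      · show QuasiCompact (Limits.pullback.fst X.hom (Word X l).hom ≫ X.hom)
        infer_instance
  have hcons : ∀ (l : List Bool) (V : Γ.left.Opens), IsAffineOpen V →
      Topology.IsConstructible (V.ι.base ⁻¹' Set.range (v l).left.base) := by
    intro l V hV
    haveI := (hW l).1
    haveI : LocallyOfFiniteType ((v l).left ≫ Γ.hom) := by rw [Over.w]; infer_instance
    haveI : LocallyOfFiniteType (v l).left := locallyOfFiniteType_of_comp (v l).left Γ.hom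
    haveI : LocallyOfFinitePresentation (v l).left :=
      LocallyOfFinitePresentation.iff_locallyOfFiniteType.2 inferInstance
    haveI : QuasiCompact ((v l).left ≫ Γ.hom) := by rw [Over.w]; exact (hW l).2
    haveI : QuasiCompact (v l).left := QuasiCompact.of_comp (v l).left Γ.hom
    haveI : IsAffine V.toScheme := hV
    have h := (v l).left.isLocallyConstructible_image (s := Set.univ)
      Topology.IsConstructible.univ.isLocallyConstructible
    rw [Set.image_univ] at h
    exact (h.preimage_of_isOpenEmbedding V.ι.isOpenEmbedding).isConstructible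
  -- the generic point
  let gp : Γ.left := (v l).left.base w
  have hgp : i.left.base gp = (word f l).left.base w := congr($(hv l).left.base w)
  have hgen : ∀ y : Γ.left, gp ⤳ y := fun y => by
    rw [← i.left.isClosedEmbedding.isInducing.specializes_iff, hgp]
    have : i.left.base y ∈ closure (wordSet f) := hr ▸ ⟨y, rfl⟩
    exact specializes_iff_mem_closure.2 (closure_minimal hlw isClosed_closure this)
  haveI : IrreducibleSpace ↥Γ.left := by
    rw [irreducibleSpace_def]
    have h : closure {gp} = (Set.univ : Set Γ.left) :=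
      Set.eq_univ_of_forall fun y => specializes_iff_mem_closure.1 (hgen y)
    show IsIrreducible (Set.univ : Set Γ.left)
    rw [← h]
    exact isIrreducible_singleton.closure
  -- an open set inside one word
  obtain ⟨_, hV, hgpV, -⟩ := exists_isAffineOpen_mem_and_subset (x := gp) (U := (⊤ : Γ.left.Opens)) trivial
  rename_i V
  haveI : Nonempty ↥V.toScheme := ⟨⟨gp, hgpV⟩⟩
  haveI : IrreducibleSpace ↥V.toScheme := V.ι.isOpenEmbedding.irreducibleSpace
  obtain ⟨U₀, hU₀, hU₀ne, hU₀sub⟩ := AlbNormLib.exists_open_subset_of_constructible (hcons l V hV) ⟨gp, hgpV⟩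
    (Set.eq_univ_of_forall fun y => specializes_iff_mem_closure.1
      (V.ι.isOpenEmbedding.isInducing.specializes_iff.1 (hgen _))) ⟨w, rfl⟩
  let U : Set Γ.left := V.ι.base '' U₀
  have hU : IsOpen U := V.ι.isOpenEmbedding.isOpenMap _ hU₀
  have hUne : U.Nonempty := hU₀ne.image _
  have hUsub : U ⊆ Set.range (v l).left.base := Set.image_subset_iff.2 hU₀sub
  -- every rational point is the value of the doubled word
  obtain ⟨m, hm⟩ := exists_word_append f l l
  haveI : Mono i := Over.mono_of_mono_left i
  haveI := (hW l).1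
  have hrat : ∀ g : 𝟙_ (Over (Spec (CommRingCat.of k))) ⟶ Γ,
      g.left.base (IsLocalRing.closedPoint k) ∈ Set.range (v (l ++ l)).left.base := by
    intro g
    let t : Γ ⟶ Γ := (𝟙 Γ)⁻¹ * (toUnit Γ ≫ g)
    have ht : ∀ {T : Over (Spec (CommRingCat.of k))} (y : T ⟶ Γ), y ≫ t = y⁻¹ * (toUnit T ≫ g) := fun y => by
      rw [MonObj.comp_mul, GrpObj.comp_inv, Category.comp_id, comp_toUnit_assoc]
    have hsurj : ∀ y : Γ.left, ∃ z, t.left.base z = y := fun y => by
      refine ⟨((toUnit Γ ≫ g) * (𝟙 Γ)⁻¹).left.base y, ?_⟩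
      show (((toUnit Γ ≫ g) * (𝟙 Γ)⁻¹) ≫ t).left.base y = y
      rw [ht, mul_inv_rev, inv_inv, _root_.mul_assoc, inv_mul_cancel, _root_.mul_one]
      rfl
    have hne : (t.left.base ⁻¹' U).Nonempty := by
      obtain ⟨y, hy⟩ := hUne
      obtain ⟨z, hz⟩ := hsurj y
      exact ⟨z, show t.left.base z ∈ U by rw [hz]; exact hy⟩
    have hto : IsOpen (t.left.base ⁻¹' U) := hU.preimage t.left.continuous
    obtain ⟨q, ⟨hq₁, hq₂⟩, hqc⟩ := nonempty_inter_closedPoints (Z := U ∩ t.left.base ⁻¹' U)
      (nonempty_preirreducible_inter hU hto hUne hne) (hU.inter hto).isLocallyClosed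
    let u : 𝟙_ (Over (Spec (CommRingCat.of k))) ⟶ Γ :=
      Over.homMk (pointOfClosedPoint Γ.hom q hqc) (pointOfClosedPoint_comp _ q hqc)
    have hu : u.left.base (IsLocalRing.closedPoint k) = q := pointOfClosedPoint_apply _ q hqc _
    obtain ⟨a, ha⟩ := hUsub hq₁
    obtain ⟨b, hb⟩ := hUsub hq₂
    obtain ⟨z, hz⟩ := exists_lift_rational (v l) u (IsLocalRing.closedPoint k) a (ha.trans hu.symm)
    obtain ⟨z', hz'⟩ := exists_lift_rational (v l) (u ≫ t) (IsLocalRing.closedPoint k) b (by
      refine hb.trans ?_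
      rw [← hu]; rfl)
    have e : (lift z z' ≫ m) ≫ v (l ++ l) = g := by
      rw [← cancel_mono i, Category.assoc, hv, Category.assoc, hm, MonObj.comp_mul, lift_fst_assoc, lift_snd_assoc,
        ← hv l, ← Category.assoc, hz, ← Category.assoc, hz', ← MonObj.mul_comp, ht, ← _root_.mul_assoc, mul_inv_cancel,
        _root_.one_mul, toUnit_unique (toUnit (𝟙_ _)) (𝟙 _), Category.id_comp]
    exact ⟨_, congr($(e).left.base (IsLocalRing.closedPoint k))⟩
  refine ⟨l ++ l, ?_⟩
  rintro _ ⟨y, rfl⟩
  suffices h : y ∈ Set.range (v (l ++ l)).left.base by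
    obtain ⟨p, rfl⟩ := h
    exact ⟨p, (congr($(hv (l ++ l)).left.base p)).symm⟩
  by_contra hy
  obtain ⟨_, hW', hyW, -⟩ := exists_isAffineOpen_mem_and_subset (x := y) (U := (⊤ : Γ.left.Opens)) trivial
  rename_i W
  haveI : JacobsonSpace ↥W.toScheme := JacobsonSpace.of_isOpenEmbedding W.ι.isOpenEmbedding
  obtain ⟨q, hq, hqc⟩ := SemiAbLib.exists_closedPoint_of_isConstructible (hcons (l ++ l) W hW').compl ⟨⟨y, hyW⟩, hy⟩
  rw [← W.ι.isOpenEmbedding.preimage_closedPoints] at hqc
  apply hq
  have h := hrat (Over.homMk (pointOfClosedPoint Γ.hom (W.ι.base q) hqc) (pointOfClosedPoint_comp _ _ hqc))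
  obtain ⟨p, hp⟩ := h
  exact ⟨p, hp.trans (pointOfClosedPoint_apply Γ.hom (W.ι.base q) hqc _)⟩

end Groth.Agent.GenSub
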