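import Groth.Agent.GenSubLib.SqWord

/-!
# The rational points of a generated subgroup
-/

set_option autoImplicit false
set_option backward.isDefEq.respectTransparency false

noncomputable section

universe u

open CategoryTheory CategoryTheory.Limits MonoidalCategory CartesianMonoidalCategory AlgebraicGeometry
  TopologicalSpace MonObj

attribute [-instance] CategoryTheory.Hom.commGroup

namespace Groth.Agent.GenSub

/-- In a space with finitely many irreducible components the connected components are clopen. -/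
theorem isClopen_connectedComponent_of_finite {Y : Type*} [TopologicalSpace Y]
    (h : (irreducibleComponents Y).Finite) (x : Y) : IsClopen (connectedComponent x) := by
  refine ⟨isClosed_connectedComponent, ?_⟩
  have e : (connectedComponent x)ᶜ = ⋃ D ∈ {D ∈ irreducibleComponents Y | Disjoint D (connectedComponent x)}, D := by
    refine Set.Subset.antisymm (fun y hy => ?_) (Set.iUnion₂_subset fun D hD => hD.2.subset_compl_right)
    refine Set.mem_biUnion (x := irreducibleComponent y)
      ⟨irreducibleComponent_mem_irreducibleComponents y, Set.disjoint_left.2 fun z hz hzx => hy ?_⟩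
      mem_irreducibleComponent
    rw [connectedComponent_eq hzx]
    exact isIrreducible_irreducibleComponent.isConnected.isPreconnected.subset_connectedComponent hz
      mem_irreducibleComponent
  rw [← isClosed_compl_iff, e]
  exact (h.subset fun D hD => hD.1).isClosed_biUnion fun D hD => isClosed_of_mem_irreducibleComponents D hD.1

variable {k : Type u} [Field k] {G X Γ : Over (Spec (CommRingCat.of k))} [GrpObj G]

/-- The rational values of words lie in the group generated by the values. -/
theorem comp_word_mem (f : X ⟶ G) : ∀ (l : List Bool) (z : 𝟙_ (Over (Spec (CommRingCat.of k))) ⟶ Word X l),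
    z ≫ word f l ∈ Subgroup.closure (Set.range fun x : 𝟙_ (Over (Spec (CommRingCat.of k))) ⟶ X => x ≫ f)
  | [], z => by
      rw [show z ≫ word f [] = 1 from MonObj.comp_one _]
      exact one_mem _
  | b :: l, z => by
      rw [show z ≫ word f (b :: l) = (z ≫ fst X (Word X l) ≫ letter f b) * (z ≫ snd X (Word X l) ≫ word f l) from
        MonObj.comp_mul _ _ _]
      refine mul_mem ?_ (by rw [← Category.assoc]; exact comp_word_mem f l _)
      rw [← Category.assoc, letter_comp]
      cases b
      · exact inv_mem (Subgroup.subset_closure ⟨_, rfl⟩)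
      · exact Subgroup.subset_closure ⟨_, rfl⟩

/-- The generated group lies in the rational points of a subgroup containing the values. -/
theorem closure_le_points [GrpObj Γ] (f : X ⟶ G) (i : Γ ⟶ G) [IsMonHom i] (hf : ∃ f' : X ⟶ Γ, f' ≫ i = f) :
    ((Subgroup.closure (Set.range fun x : 𝟙_ (Over (Spec (CommRingCat.of k))) ⟶ X => x ≫ f) :
      Subgroup (𝟙_ (Over (Spec (CommRingCat.of k))) ⟶ G)) : Set (𝟙_ (Over (Spec (CommRingCat.of k))) ⟶ G)) ⊆
      Set.range fun z : 𝟙_ (Over (Spec (CommRingCat.of k))) ⟶ Γ => z ≫ i := by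
  obtain ⟨f', hf'⟩ := hf
  intro g hg
  induction hg using Subgroup.closure_induction with
  | mem g hg =>
    obtain ⟨x, rfl⟩ := hg
    exact ⟨x ≫ f', by rw [← hf']; exact Category.assoc _ _ _⟩
  | one => exact ⟨1, MonObj.one_comp i⟩
  | mul u v _ _ hu hv =>
    obtain ⟨a, rfl⟩ := hu
    obtain ⟨b, rfl⟩ := hv
    exact ⟨a * b, MonObj.mul_comp _ _ i⟩
  | inv u _ hu =>
    obtain ⟨a, rfl⟩ := hu
    exact ⟨a⁻¹, GrpObj.inv_comp _ i⟩

variable [IsAlgClosed k] [LocallyOfFiniteType G.hom] [LocallyOfFiniteType X.hom]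

/-- If every connected component of the source has a rational point mapped to the unit, the rational
points of the generated subgroup are the group generated by the values. -/
theorem points_eq_closure [GrpObj Γ] [QuasiCompact X.hom] (f : X ⟶ G) (i : Γ ⟶ G) [IsMonHom i]
    [IsClosedImmersion i.left] (hr : Set.range i.left.base = closure (wordSet f))
    (hv : ∀ l, ∃ v : Word X l ⟶ Γ, v ≫ i = word f l) (hf : ∃ f' : X ⟶ Γ, f' ≫ i = f)
    (hbase : ∀ x : X.left, ∃ y : 𝟙_ (Over (Spec (CommRingCat.of k))) ⟶ X,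
      y ≫ f = 1 ∧ y.left.base (IsLocalRing.closedPoint k) ∈ connectedComponent x) :
    Set.range (fun z : 𝟙_ (Over (Spec (CommRingCat.of k))) ⟶ Γ => z ≫ i) =
      ((Subgroup.closure (Set.range fun x : 𝟙_ (Over (Spec (CommRingCat.of k))) ⟶ X => x ≫ f) :
        Subgroup (𝟙_ (Over (Spec (CommRingCat.of k))) ⟶ G)) : Set (𝟙_ (Over (Spec (CommRingCat.of k))) ⟶ G)) := by
  refine Set.Subset.antisymm ?_ (closure_le_points f i hf)
  obtain ⟨l, hl⟩ := exists_surjective_word f i hr hv hbase
  rintro _ ⟨z, rfl⟩
  obtain ⟨w, hw⟩ := hl ⟨z.left.base (IsLocalRing.closedPoint k), rfl⟩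
  haveI : LocallyOfFiniteType (Word X l).hom := by
    clear hw w hl
    induction l with
    | nil => exact inferInstanceAs (LocallyOfFiniteType (𝟙 (Spec (CommRingCat.of k))))
    | cons b l ih =>
      haveI := ih
      show LocallyOfFiniteType (Limits.pullback.fst X.hom (Word X l).hom ≫ X.hom)
      haveI : LocallyOfFiniteType (Limits.pullback.fst X.hom (Word X l).hom) :=
        MorphismProperty.pullback_fst _ _ inferInstance
      infer_instance
  obtain ⟨y, hy⟩ := exists_lift_rational (word f l) (z ≫ i) (IsLocalRing.closedPoint k) w hw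
  show z ≫ i ∈ _
  rw [← hy]
  exact comp_word_mem f l y

/-- If the values lie in finitely many cosets of the rational points of a closed subgroup, so do the
rational points of the closure of the words. -/
theorem points_subset_translates (f : X ⟶ G) (i : Γ ⟶ G) (hr : Set.range i.left.base = closure (wordSet f))
    {H : Over (Spec (CommRingCat.of k))} [LocallyOfFiniteType H.hom] (j : H ⟶ G) [IsClosedImmersion j.left]
    (F : Finset (𝟙_ (Over (Spec (CommRingCat.of k))) ⟶ G))
    (hcov : ∀ g ∈ Subgroup.closure (Set.range fun x : 𝟙_ (Over (Spec (CommRingCat.of k))) ⟶ X => x ≫ f),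
      ∃ a ∈ F, ∃ y : 𝟙_ (Over (Spec (CommRingCat.of k))) ⟶ H, g = a * (y ≫ j))
    (z : 𝟙_ (Over (Spec (CommRingCat.of k))) ⟶ Γ) :
    ∃ a ∈ F, ∃ y : 𝟙_ (Over (Spec (CommRingCat.of k))) ⟶ H, z ≫ i = a * (y ≫ j) := by
  classical
  let t : (𝟙_ (Over (Spec (CommRingCat.of k))) ⟶ G) → (G ⟶ G) := fun a => (toUnit G ≫ a) * 𝟙 G
  have ht : ∀ (a : 𝟙_ (Over (Spec (CommRingCat.of k))) ⟶ G) {T : Over (Spec (CommRingCat.of k))} (y : T ⟶ G),
      y ≫ t a = (toUnit T ≫ a) * y := fun a T y => by
    rw [MonObj.comp_mul, comp_toUnit_assoc, Category.comp_id]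
  have htr : ∀ (a : 𝟙_ (Over (Spec (CommRingCat.of k))) ⟶ G)
      (y : 𝟙_ (Over (Spec (CommRingCat.of k))) ⟶ G), y ≫ t a = a * y := fun a y => by
    rw [ht, toUnit_unique (toUnit (𝟙_ _)) (𝟙 _), Category.id_comp]
  let U : Set G.left := ⋃ a ∈ F, (t a).left.base '' Set.range j.left.base
  have hUcl : IsClosed U := by
    refine F.finite_toSet.isClosed_biUnion fun a _ => ?_
    have hinv : ∀ b c : 𝟙_ (Over (Spec (CommRingCat.of k))) ⟶ G, b * c = 1 → t c ≫ t b = 𝟙 G := fun b c hbc => by
      rw [ht, ← _root_.mul_assoc, ← MonObj.comp_mul, hbc, MonObj.comp_one, _root_.one_mul]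
    let e : G ≅ G := ⟨t a, t a⁻¹, hinv _ _ (inv_mul_cancel a), hinv _ _ (mul_inv_cancel a)⟩
    haveI : IsIso (t a).left := ((Over.forget _).mapIso e).isIso_hom
    exact (t a).left.homeomorph.isClosedMap _ j.left.isClosedEmbedding.isClosed_range
  have hW : ∀ l, LocallyOfFiniteType (Word X l).hom := by
    intro l
    induction l with
    | nil => exact inferInstanceAs (LocallyOfFiniteType (𝟙 (Spec (CommRingCat.of k))))
    | cons b l ih =>
      haveI := ih
      show LocallyOfFiniteType (Limits.pullback.fst X.hom (Word X l).hom ≫ X.hom)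
      haveI : LocallyOfFiniteType (Limits.pullback.fst X.hom (Word X l).hom) :=
        MorphismProperty.pullback_fst _ _ inferInstance
      infer_instance
  have hsub : ∀ l, Set.range (word f l).left.base ⊆ U := by
    intro l
    haveI := hW l
    haveI : JacobsonSpace ↥(Word X l).left := LocallyOfFiniteType.jacobsonSpace (Word X l).hom
    by_contra hne
    obtain ⟨_, ⟨w, rfl⟩, hw⟩ := Set.not_subset.1 hne
    obtain ⟨q, hq, hqc⟩ := nonempty_inter_closedPoints (Z := (word f l).left.base ⁻¹' Uᶜ)
      ⟨w, hw⟩ (hUcl.isOpen_compl.preimage (word f l).left.continuous).isLocallyClosed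
    let p : 𝟙_ (Over (Spec (CommRingCat.of k))) ⟶ Word X l :=
      Over.homMk (pointOfClosedPoint (Word X l).hom q hqc) (pointOfClosedPoint_comp _ q hqc)
    have hp : p.left.base (IsLocalRing.closedPoint k) = q := pointOfClosedPoint_apply _ q hqc _
    obtain ⟨a, ha, y, hy⟩ := hcov _ (comp_word_mem f l p)
    refine hq (Set.mem_iUnion₂.2 ⟨a, ha, j.left.base (y.left.base (IsLocalRing.closedPoint k)), ⟨_, rfl⟩, ?_⟩)
    have e : (y ≫ j) ≫ t a = p ≫ word f l := by rw [htr, hy]
    rw [← hp]
    exact congr($(e).left.base (IsLocalRing.closedPoint k))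
  have hz : (z ≫ i).left.base (IsLocalRing.closedPoint k) ∈ U := by
    refine closure_minimal (s := wordSet f) (Set.iUnion_subset fun l : ULift.{u} (List Bool) => hsub l.down) hUcl ?_
    show _ ∈ closure (wordSet f)
    rw [← hr]
    exact ⟨_, rfl⟩
  obtain ⟨a, ha, _, ⟨w, rfl⟩, hw⟩ := Set.mem_iUnion₂.1 hz
  obtain ⟨y, hy⟩ := exists_lift_rational (j ≫ t a) (z ≫ i) (IsLocalRing.closedPoint k) w hw
  exact ⟨a, ha, y, by rw [← hy, ← Category.assoc, htr]⟩

end Groth.Agent.GenSub
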