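import Mathlib.GroupTheory.Schreier
import Mathlib.GroupTheory.FiniteAbelian.Basic

/-!
# Baer's theorem

If two normal subgroups have only finitely many commutators of an element of one with an element of
the other, their commutator subgroup is finite.
-/

set_option autoImplicit false

open scoped commutatorElement

namespace Groth.Agent.GenSub

variable {G : Type*} [Group G] (A B : Subgroup G)

/-- The commutators of elements of two subgroups. -/
def commSet : Set G := {g | ∃ a ∈ A, ∃ b ∈ B, ⁅a, b⁆ = g}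

theorem closure_commSet : Subgroup.closure (commSet A B) = ⁅A, B⁆ := (Subgroup.commutator_def A B).symm

theorem conj_mem_commSet [A.Normal] [B.Normal] (x : G) {s : G} (hs : s ∈ commSet A B) :
    x * s * x⁻¹ ∈ commSet A B := by
  obtain ⟨a, ha, b, hb, rfl⟩ := hs
  exact ⟨x * a * x⁻¹, ‹A.Normal›.conj_mem a ha x, x * b * x⁻¹, ‹B.Normal›.conj_mem b hb x,
    (conjugate_commutatorElement a b x).symm⟩

/-- Some positive power of every element centralises the commutator subgroup. -/
theorem exists_pow_central [A.Normal] [B.Normal] (hS : (commSet A B).Finite) (x : G) :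
    ∃ m : ℕ, 0 < m ∧ ∀ c ∈ ⁅A, B⁆, x ^ m * c = c * x ^ m := by
  haveI := hS.to_subtype
  let φ : ℕ → (commSet A B → commSet A B) := fun n s =>
    ⟨x ^ n * s * (x ^ n)⁻¹, conj_mem_commSet A B (x ^ n) s.2⟩
  obtain ⟨i, j, hne, hij⟩ := Finite.exists_ne_map_eq_of_infinite φ
  wlog hlt : i < j generalizing i j
  · exact this j i hne.symm hij.symm (lt_of_le_of_ne (not_lt.1 hlt) hne.symm)
  refine ⟨j - i, Nat.sub_pos_of_lt hlt, fun c hc => ?_⟩
  rw [← closure_commSet] at hc
  induction hc using Subgroup.closure_induction with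
  | mem s hs =>
    have h := congrArg Subtype.val (congrFun hij ⟨s, hs⟩)
    simp only [φ] at h
    have e : x ^ j = x ^ i * x ^ (j - i) := by rw [← pow_add, Nat.add_sub_cancel' hlt.le]
    rw [e, mul_inv_rev] at h
    have h2 : s = x ^ (j - i) * s * (x ^ (j - i))⁻¹ := by
      apply mul_left_cancel (a := x ^ i)
      apply mul_right_cancel (b := (x ^ i)⁻¹)
      rw [h]
      group
    calc x ^ (j - i) * s = (x ^ (j - i) * s * (x ^ (j - i))⁻¹) * x ^ (j - i) := by group
      _ = s * x ^ (j - i) := by rw [← h2]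
  | one => simp
  | mul a b _ _ ha hb => rw [← mul_assoc, ha, mul_assoc, hb, mul_assoc]
  | inv a _ ha => exact (Commute.inv_right ha).eq

/-- The abelian case. -/
theorem finite_commutator_abelian [A.Normal] [B.Normal] (hS : (commSet A B).Finite)
    (hab : ∀ x ∈ ⁅A, B⁆, ∀ y ∈ ⁅A, B⁆, x * y = y * x) : ((⁅A, B⁆ : Subgroup G) : Set G).Finite := by
  classical
  have hCA : ⁅A, B⁆ ≤ A := Subgroup.commutator_le_left A B
  have hmem : ∀ a ∈ A, ∀ b ∈ B, ⁅a, b⁆ ∈ ⁅A, B⁆ := fun a ha b hb => Subgroup.commutator_mem_commutator ha hb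
  -- an element with powers among the commutators has finite order
  have hfin : ∀ d : G, (∀ n : ℕ, d ^ n ∈ commSet A B) → IsOfFinOrder d := by
    intro d hd
    by_contra hd'
    exact Set.infinite_range_of_injective (injective_pow_iff_not_isOfFinOrder.2 hd')
      (hS.subset (by rintro _ ⟨n, rfl⟩; exact hd n))
  have key : ∀ s ∈ commSet A B, IsOfFinOrder s := by
    rintro _ ⟨a, ha, b, hb, rfl⟩
    obtain ⟨m, hm, hcent⟩ := exists_pow_central A B hS b
    let c := ⁅a, b⁆
    have hc : c ∈ ⁅A, B⁆ := hmem a ha b hb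
    have hmulr : ∀ u v : G, ⁅a, u * v⁆ = ⁅a, u⁆ * (u * ⁅a, v⁆ * u⁻¹) := fun u v => by
      simp only [commutatorElement_def]; group
    -- the commutator with the central power
    have hd : IsOfFinOrder ⁅a, b ^ m⁆ := by
      refine hfin _ fun n => ⟨a, ha, (b ^ m) ^ n, B.pow_mem (B.pow_mem hb m) n, ?_⟩
      induction n with
      | zero => simp
      | succ n ih =>
        rw [pow_succ', hmulr, ih, hcent _ (pow_mem (hmem a ha _ (B.pow_mem hb m)) n), mul_inv_cancel_right, pow_succ']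
    -- conjugation by `b` fixes `c` up to torsion
    let e := ⁅c, b⁆
    have heC : e ∈ ⁅A, B⁆ := hmem c (hCA hc) b hb
    have he : IsOfFinOrder e := by
      refine hfin _ fun n => ⟨c ^ n, A.pow_mem (hCA hc) n, b, hb, ?_⟩
      induction n with
      | zero => simp
      | succ n ih =>
        have h1 : ⁅c * c ^ n, b⁆ = c * ⁅c ^ n, b⁆ * c⁻¹ * ⁅c, b⁆ := by simp only [commutatorElement_def]; group
        rw [pow_succ', h1, ih, hab c hc _ (pow_mem heC n), mul_inv_cancel_right, pow_succ]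
    have hbc : b * c * b⁻¹ = e⁻¹ * c := by simp only [e, commutatorElement_def]; group
    have hpow : ∀ j : ℕ, ∃ t ∈ ⁅A, B⁆, IsOfFinOrder t ∧ ⁅a, b ^ j⁆ = c ^ j * t := by
      intro j
      induction j with
      | zero => exact ⟨1, one_mem _, IsOfFinOrder.one, by simp⟩
      | succ j ih =>
        obtain ⟨t, htC, ht, hj⟩ := ih
        have htb : b * t * b⁻¹ ∈ ⁅A, B⁆ := (inferInstance : (⁅A, B⁆).Normal).conj_mem t htC b
        refine ⟨(e⁻¹) ^ j * (b * t * b⁻¹), mul_mem (pow_mem (inv_mem heC) j) htb,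
          (show Commute ((e⁻¹) ^ j) (b * t * b⁻¹) from hab _ (pow_mem (inv_mem heC) j) _ htb).isOfFinOrder_mul
            (he.inv.pow) ((MulAut.conj b).toMonoidHom.isOfFinOrder ht), ?_⟩
        rw [pow_succ', hmulr, hj]
        have h2 : b * (c ^ j * t) * b⁻¹ = (b * c * b⁻¹) ^ j * (b * t * b⁻¹) := by rw [conj_pow]; group
        rw [h2, hbc, (show Commute e⁻¹ c from hab _ (inv_mem heC) _ hc).mul_pow, pow_succ',
          hab ((e⁻¹) ^ j) (pow_mem (inv_mem heC) j) (c ^ j) (pow_mem hc j)]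
        simp only [mul_assoc]
        rfl
    obtain ⟨t, htC, ht, hmt⟩ := hpow m
    have hcm : IsOfFinOrder (c ^ m) := by
      rw [show c ^ m = ⁅a, b ^ m⁆ * t⁻¹ by rw [hmt]; group]
      exact (show Commute ⁅a, b ^ m⁆ t⁻¹ from hab _ (hmem a ha _ (B.pow_mem hb m)) _ (inv_mem htC)).isOfFinOrder_mul
        hd ht.inv
    exact IsOfFinOrder.of_pow hcm hm.ne'
  letI : CommGroup ↥(⁅A, B⁆ : Subgroup G) :=
    { (inferInstance : Group ↥(⁅A, B⁆ : Subgroup G)) with mul_comm := fun x y => Subtype.ext (hab _ x.2 _ y.2) }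
  haveI : Group.FG ↥(⁅A, B⁆ : Subgroup G) := (Group.fg_iff_subgroup_fg _).2
    ⟨hS.toFinset, by rw [Set.Finite.coe_toFinset, closure_commSet]⟩
  have htors : Monoid.IsTorsion ↥(⁅A, B⁆ : Subgroup G) := by
    rintro ⟨x, hx⟩
    rw [← Submonoid.isOfFinOrder_coe (H := (⁅A, B⁆ : Subgroup G).toSubmonoid)]
    show IsOfFinOrder x
    have hx' : x ∈ Subgroup.closure (commSet A B) := by rwa [closure_commSet]
    clear hx
    induction hx' using Subgroup.closure_induction with
    | mem s hs => exact key s hs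
    | one => exact IsOfFinOrder.one
    | mul u v hu hv hu' hv' =>
      rw [closure_commSet] at hu hv
      exact (show Commute u v from hab u hu v hv).isOfFinOrder_mul hu' hv'
    | inv u _ hu' => exact hu'.inv
  haveI := CommGroup.finite_of_fg_torsion ↥(⁅A, B⁆ : Subgroup G) htors
  exact Set.toFinite _

/-- **Baer's theorem**: finitely many commutators generate a finite group, for normal subgroups. -/
theorem finite_commutator [A.Normal] [B.Normal] (hS : (commSet A B).Finite) :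
    ((⁅A, B⁆ : Subgroup G) : Set G).Finite := by
  classical
  haveI := hS.to_subtype
  -- the derived group of the commutator subgroup is finite
  let φ : ↥(⁅A, B⁆ : Subgroup G) → (commSet A B → commSet A B) := fun x s =>
    ⟨x.1 * s * x.1⁻¹, conj_mem_commSet A B x.1 s.2⟩
  have hφ : ∀ x x' : ↥(⁅A, B⁆ : Subgroup G), φ x = φ x' →
      x⁻¹ * x' ∈ Subgroup.center ↥(⁅A, B⁆ : Subgroup G) := by
    intro x x' h
    rw [Subgroup.mem_center_iff]
    rintro ⟨g, hg⟩
    refine Subtype.ext ?_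
    show g * (x.1⁻¹ * x'.1) = (x.1⁻¹ * x'.1) * g
    have hg' : g ∈ Subgroup.closure (commSet A B) := by rwa [closure_commSet]
    clear hg
    induction hg' using Subgroup.closure_induction with
    | mem s hs =>
      have h' := congrArg Subtype.val (congrFun h ⟨s, hs⟩)
      simp only [φ] at h'
      calc s * (x.1⁻¹ * x'.1) = x.1⁻¹ * (x.1 * s * x.1⁻¹) * x'.1 := by group
        _ = x.1⁻¹ * x'.1 * s := by rw [h']; group
    | one => simp
    | mul u v _ _ hu hv => rw [mul_assoc, hv, ← mul_assoc, hu, mul_assoc]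
    | inv u _ hu => exact (Commute.inv_left hu).eq
  haveI : Finite (commutatorSet ↥(⁅A, B⁆ : Subgroup G)) := by
    have hval : ∀ x x' y y' : ↥(⁅A, B⁆ : Subgroup G), φ x = φ x' → φ y = φ y' → ⁅x', y'⁆ = ⁅x, y⁆ := by
      intro x x' y y' hx hy
      obtain ⟨z, hz, rfl⟩ : ∃ z ∈ Subgroup.center ↥(⁅A, B⁆ : Subgroup G), x' = x * z :=
        ⟨_, hφ x x' hx, by group⟩
      obtain ⟨w, hw, rfl⟩ : ∃ w ∈ Subgroup.center ↥(⁅A, B⁆ : Subgroup G), y' = y * w :=
        ⟨_, hφ y y' hy, by group⟩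
      have hz' := Subgroup.mem_center_iff.1 hz
      have hw' := Subgroup.mem_center_iff.1 hw
      calc ⁅x * z, y * w⁆ = x * (z * (y * w)) * z⁻¹ * x⁻¹ * w⁻¹ * y⁻¹ := by simp only [commutatorElement_def]; group
        _ = x * y * (w * x⁻¹) * w⁻¹ * y⁻¹ := by rw [← hz' (y * w)]; group
        _ = x * y * x⁻¹ * y⁻¹ := by rw [← hw' x⁻¹]; group
        _ = ⁅x, y⁆ := (commutatorElement_def x y).symm
    let ψ : (Set.range φ) × (Set.range φ) → ↥(⁅A, B⁆ : Subgroup G) := fun p =>
      ⁅p.1.2.choose, p.2.2.choose⁆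
    refine (Set.finite_range ψ).subset ?_ |>.to_subtype
    rintro _ ⟨x, y, rfl⟩
    refine ⟨(⟨φ x, x, rfl⟩, ⟨φ y, y, rfl⟩), ?_⟩
    exact (hval _ x _ y (Exists.choose_spec (⟨x, rfl⟩ : ∃ z, φ z = φ x)) (Exists.choose_spec (⟨y, rfl⟩ : ∃ z, φ z = φ y))).symm
  haveI : Finite ↥(commutator ↥(⁅A, B⁆ : Subgroup G)) := inferInstance
  let N : Subgroup G := ⁅⁅A, B⁆, ⁅A, B⁆⁆
  have hN : (N : Set G).Finite := by
    have e : (commutator ↥(⁅A, B⁆ : Subgroup G)).map (⁅A, B⁆ : Subgroup G).subtype = N :=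
      Subgroup.map_subtype_commutator _
    rw [← e, Subgroup.coe_map]
    exact (Set.toFinite _).image _
  -- reduce modulo it
  let π := QuotientGroup.mk' N
  haveI : (A.map π).Normal := ‹A.Normal›.map π (QuotientGroup.mk'_surjective N)
  haveI : (B.map π).Normal := ‹B.Normal›.map π (QuotientGroup.mk'_surjective N)
  have hmap : (⁅A, B⁆ : Subgroup G).map π = ⁅A.map π, B.map π⁆ := Subgroup.map_commutator A B π
  have hfin : ((⁅A.map π, B.map π⁆ : Subgroup (G ⧸ N)) : Set (G ⧸ N)).Finite := by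
    refine finite_commutator_abelian (A.map π) (B.map π) ((hS.image π).subset ?_) ?_
    · rintro _ ⟨_, ⟨a, ha, rfl⟩, _, ⟨b, hb, rfl⟩, rfl⟩
      exact ⟨_, ⟨a, ha, b, hb, rfl⟩, map_commutatorElement π a b⟩
    · rw [← hmap]
      rintro _ ⟨x, hx, rfl⟩ _ ⟨y, hy, rfl⟩
      have h : π ⁅x, y⁆ = 1 := (QuotientGroup.eq_one_iff _).2 (Subgroup.commutator_mem_commutator hx hy)
      rw [map_commutatorElement, commutatorElement_eq_one_iff_mul_comm] at h
      exact h
  rw [← hmap, Subgroup.coe_map] at hfin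
  refine Set.Finite.subset (s := ⋃ q ∈ π '' ((⁅A, B⁆ : Subgroup G) : Set G), {g | π g = q}) ?_
    (fun g hg => Set.mem_biUnion (Set.mem_image_of_mem _ hg) rfl)
  refine hfin.biUnion fun q _ => ?_
  obtain ⟨g₀, rfl⟩ := QuotientGroup.mk'_surjective N q
  refine (hN.image (g₀ * ·)).subset fun g hg => ⟨g₀⁻¹ * g, ?_, by simp⟩
  exact QuotientGroup.eq.1 (Eq.symm hg)

end Groth.Agent.GenSub
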