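import Groth.Agent.GenSubLib.Smallest

/-!
# Dense families stay schematically dense after base change over a field
-/

set_option autoImplicit false
set_option backward.isDefEq.respectTransparency false

noncomputable section

universe u

open CategoryTheory CategoryTheory.Limits AlgebraicGeometry TensorProduct

namespace Groth.Agent.GenSub

variable {k : Type u} [Field k]

/-- A closed subscheme of a product containing the base change of a dense family is everything. -/
theorem isIso_of_family {A Γ : Scheme.{u}} (g : A ⟶ Spec (CommRingCat.of k)) (h : Γ ⟶ Spec (CommRingCat.of k))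
    [AlgebraicGeometry.IsReduced Γ] {σ : Type u} {W : σ → Scheme.{u}} (v : ∀ a, W a ⟶ Γ)
    (hd : Dense (⋃ a, Set.range (v a))) {T : Scheme.{u}} (t : T ⟶ pullback g h) [IsClosedImmersion t]
    (ht : ∀ (a : σ) (Y : Scheme.{u}) (p : Y ⟶ A) (w : Y ⟶ W a) (e : p ≫ g = (w ≫ v a) ≫ h),
      ∃ z : Y ⟶ T, z ≫ t = pullback.lift p (w ≫ v a) e) : IsIso t := by
  classical
  let 𝒰 := Scheme.Pullback.openCoverOfLeftRight (A.openCoverOfIsOpenCover _ (iSup_affineOpens_eq_top A))
    (Γ.openCoverOfIsOpenCover _ (iSup_affineOpens_eq_top Γ)) g h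
  refine (IsZariskiLocalAtTarget.iff_of_openCover (P := MorphismProperty.isomorphisms Scheme.{u}) 𝒰).mpr ?_
  rintro ⟨U, V⟩
  obtain ⟨R, _, _, a, _, ha, hag⟩ := GeomRedFieldLib.exists_algebra g U.2
  obtain ⟨B, _, _, b, _, hb, hbh⟩ := GeomRedFieldLib.exists_algebra h V.2
  haveI : _root_.IsReduced B := by
    haveI := isReduced_of_isOpenImmersion b
    exact (affine_isReduced_iff (CommRingCat.of B)).mp inferInstance
  let ea := IsOpenImmersion.isoOfRangeEq a U.1.ι (ha.trans (Scheme.Opens.range_ι _).symm)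
  let eb := IsOpenImmersion.isoOfRangeEq b V.1.ι (hb.trans (Scheme.Opens.range_ι _).symm)
  let m₀ : pullback (GeomRedFieldLib.str k R) (GeomRedFieldLib.str k B) ⟶ pullback (U.1.ι ≫ g) (V.1.ι ≫ h) :=
    pullback.map _ _ _ _ ea.hom eb.hom (𝟙 _)
      (by rw [Category.comp_id, ← hag]; simp [ea]) (by rw [Category.comp_id, ← hbh]; simp [eb])
  haveI : IsIso m₀ := inferInstanceAs (IsIso (pullback.map _ _ _ _ _ _ _ _ _))
  let m : Spec (CommRingCat.of (R ⊗[k] B)) ⟶ pullback g h :=
    ((pullbackSpecIso k R B).inv ≫ m₀) ≫ 𝒰.f ⟨U, V⟩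
  have hm₁ : m ≫ pullback.fst g h = Spec.map (CommRingCat.ofHom Algebra.TensorProduct.includeLeftRingHom) ≫ a := by
    show ((_ ≫ m₀) ≫ pullback.map _ _ _ _ U.1.ι V.1.ι (𝟙 _) (Category.comp_id _) (Category.comp_id _)) ≫ _ = _
    simp only [m₀, Category.assoc, pullback.lift_fst, pullback.lift_fst_assoc, pullbackSpecIso_inv_fst_assoc, ea,
      IsOpenImmersion.isoOfRangeEq_hom_fac]
  have hm₂ : m ≫ pullback.snd g h =
      Spec.map (CommRingCat.ofHom ((Algebra.TensorProduct.includeRight : B →ₐ[k] R ⊗[k] B) : B →+* R ⊗[k] B)) ≫ b := by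
    show ((_ ≫ m₀) ≫ pullback.map _ _ _ _ U.1.ι V.1.ι (𝟙 _) (Category.comp_id _) (Category.comp_id _)) ≫ _ = _
    simp only [m₀, Category.assoc, pullback.lift_snd, pullback.lift_snd_assoc, pullbackSpecIso_inv_snd_assoc, eb,
      IsOpenImmersion.isoOfRangeEq_hom_fac]
  -- it suffices to treat the affine chart
  suffices hiso : IsIso (pullback.snd t m) by
    show IsIso (pullback.snd t (𝒰.f ⟨U, V⟩))
    have h' : IsPullback (pullback.fst t m) (pullback.snd t m) t
        ((((pullbackSpecIso k R B).inv ≫ m₀) : _ ⟶ _) ≫ 𝒰.f ⟨U, V⟩) := IsPullback.of_hasPullback t m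
    have sq : IsPullback (pullback.lift (pullback.fst t m) (pullback.snd t m ≫ (pullbackSpecIso k R B).inv ≫ m₀)
        (h'.w.trans (Category.assoc _ _ _).symm)) (pullback.snd t m) (pullback.snd t (𝒰.f ⟨U, V⟩))
        ((pullbackSpecIso k R B).inv ≫ m₀) :=
      IsPullback.of_right (by rw [pullback.lift_fst]; exact h') (pullback.lift_snd _ _ _)
        (IsPullback.of_hasPullback t (𝒰.f ⟨U, V⟩))
    haveI : IsIso (pullback.lift (pullback.fst t m) (pullback.snd t m ≫ (pullbackSpecIso k R B).inv ≫ m₀)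
        (h'.w.trans (Category.assoc _ _ _).symm)) := sq.isIso_fst_of_isIso
    have e := sq.w
    have e' : pullback.snd t (𝒰.f ⟨U, V⟩) = inv (pullback.lift (pullback.fst t m)
        (pullback.snd t m ≫ (pullbackSpecIso k R B).inv ≫ m₀) (h'.w.trans (Category.assoc _ _ _).symm)) ≫
        pullback.snd t m ≫ (pullbackSpecIso k R B).inv ≫ m₀ := by
      rw [IsIso.eq_inv_comp, e]
    rw [e']
    infer_instance
  haveI : IsClosedImmersion (pullback.snd t m) := MorphismProperty.pullback_snd _ _ inferInstance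
  obtain ⟨I, e, he⟩ := IsClosedImmersion.Spec_iff.mp ‹IsClosedImmersion (pullback.snd t m)›
  suffices hI : I = ⊥ by
    rw [he]
    haveI : IsIso (CommRingCat.ofHom (Ideal.Quotient.mk I)) :=
      (ConcreteCategory.isIso_iff_bijective _).mpr
        ⟨(RingHom.injective_iff_ker_eq_bot (Ideal.Quotient.mk I)).2 (by rw [Ideal.mk_ker, hI]), Ideal.Quotient.mk_surjective⟩
    infer_instance
  -- charts of the family over `B`
  let P := fun i => pullback b (v i)
  choose S hS₁ hS₂ c hc₁ hc₂ hc₃ using fun (iV : Σ i, (P i).affineOpens) =>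
    GeomRedFieldLib.exists_algebra (pullback.snd b (v iV.1) ≫ v iV.1 ≫ h) iV.2.2
  choose ψ hψ using fun iV => Spec.map_surjective (c iV ≫ pullback.fst b (v iV.1))
  let φ : ∀ iV, B →ₐ[k] S iV := fun iV =>
    { (ψ iV).hom with
      commutes' := fun x => by
        have e : CommRingCat.ofHom (algebraMap k B) ≫ ψ iV = CommRingCat.ofHom (algebraMap k (S iV)) := by
          apply Spec.map_injective
          rw [Spec.map_comp, hψ, Category.assoc]
          refine Eq.trans ?_ (hc₃ iV)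
          rw [← pullback.condition_assoc, hbh]
        exact congr($(e).hom x) }
  have hinj : ∀ x : B, (∀ iV, φ iV x = 0) → x = 0 := by
    intro x hx
    refine (nilpotent_iff_mem_prime.2 fun Q hQ => ?_).eq_zero
    by_contra hQx
    have hne : (b '' (PrimeSpectrum.basicOpen x : Set (PrimeSpectrum B))).Nonempty := ⟨b ⟨Q, hQ⟩, _, hQx, rfl⟩
    obtain ⟨y, hy, ⟨q, hq, hqy⟩⟩ := hd.exists_mem_open (b.isOpenEmbedding.isOpenMap _
      (PrimeSpectrum.basicOpen x).isOpen) hne
    obtain ⟨i, w, hw⟩ := Set.mem_iUnion.1 hy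
    obtain ⟨p, hp, -⟩ := Scheme.Pullback.exists_preimage_pullback (f := b) (g := v i) q w (hqy.trans hw.symm)
    obtain ⟨V', hV', hpV⟩ : ∃ V' : (P i).Opens, IsAffineOpen V' ∧ p ∈ V' := by
      obtain ⟨V', hV', hpV, -⟩ := exists_isAffineOpen_mem_and_subset (X := P i) (x := p) (U := ⊤) trivial
      exact ⟨V', hV', hpV⟩
    obtain ⟨r, hr'⟩ : p ∈ Set.range (c ⟨i, V', hV'⟩) := by rw [hc₂]; exact hpV
    apply hq
    have e : (Spec.map (ψ ⟨i, V', hV'⟩)) r = q := by
      rw [hψ, Scheme.Hom.comp_apply, hr', hp]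
    rw [← e]
    show φ ⟨i, V', hV'⟩ x ∈ r.asIdeal
    rw [hx ⟨i, V', hV'⟩]
    exact zero_mem _
  rw [eq_bot_iff]
  intro r hr
  rw [Submodule.mem_bot]
  refine eq_zero_of_forall_lTensor (fun iV => (φ iV).toLinearMap) hinj r fun iV => ?_
  let Φ : R ⊗[k] B →ₐ[k] R ⊗[k] S iV := Algebra.TensorProduct.map (AlgHom.id k R) (φ iV)
  let L : Spec (CommRingCat.of (R ⊗[k] S iV)) ⟶ Spec (CommRingCat.of R) :=
    Spec.map (CommRingCat.ofHom Algebra.TensorProduct.includeLeftRingHom)
  let Rt : Spec (CommRingCat.of (R ⊗[k] S iV)) ⟶ Spec (CommRingCat.of (S iV)) :=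
    Spec.map (CommRingCat.ofHom
      ((Algebra.TensorProduct.includeRight : S iV →ₐ[k] R ⊗[k] S iV) : S iV →+* R ⊗[k] S iV))
  have e1 : Spec.map (CommRingCat.ofHom Φ.toRingHom) ≫ m ≫ pullback.fst g h = L ≫ a := by
    rw [hm₁, ← Category.assoc, ← Spec.map_comp]
    congr 2
    refine CommRingCat.hom_ext (RingHom.ext fun x => ?_)
    show Φ (x ⊗ₜ[k] (1 : B)) = x ⊗ₜ[k] (1 : S iV)
    simp [Φ]
  have e2 : Spec.map (CommRingCat.ofHom Φ.toRingHom) ≫ m ≫ pullback.snd g h =
      (Rt ≫ c iV ≫ pullback.snd b (v iV.1)) ≫ v iV.1 := by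
    rw [hm₂, Category.assoc, Category.assoc, ← pullback.condition, ← Category.assoc (c iV), ← hψ,
      ← Category.assoc, ← Category.assoc, ← Spec.map_comp, ← Spec.map_comp]
    congr 2
  obtain ⟨z, hz⟩ := ht iV.1 _ (L ≫ a) (Rt ≫ c iV ≫ pullback.snd b (v iV.1)) (by
    rw [← e1, ← e2]
    simp only [Category.assoc, pullback.condition])
  have hz' : z ≫ t = Spec.map (CommRingCat.ofHom Φ.toRingHom) ≫ m := by
    rw [hz]
    refine pullback.hom_ext ?_ ?_
    · rw [pullback.lift_fst, Category.assoc, e1]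
    · rw [pullback.lift_snd]
      simp only [Category.assoc] at e2 ⊢
      rw [e2]
  let y := pullback.lift (f := t) (g := m) z (Spec.map (CommRingCat.ofHom Φ.toRingHom)) hz'
  obtain ⟨χ, hχ⟩ := Spec.map_surjective (y ≫ e.hom)
  have hfac : CommRingCat.ofHom (Ideal.Quotient.mk I) ≫ χ = CommRingCat.ofHom Φ.toRingHom := by
    apply Spec.map_injective
    rw [Spec.map_comp, hχ, Category.assoc, ← he, pullback.lift_snd]
  have : Φ r = 0 := by
    have := congr($(hfac).hom r)
    simp only [CommRingCat.hom_comp, RingHom.comp_apply, CommRingCat.hom_ofHom] at this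
    rw [Ideal.Quotient.eq_zero_iff_mem.2 hr, map_zero] at this
    exact this.symm
  exact this

end Groth.Agent.GenSub
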