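import Groth.Agent.GenSubLib.BaseChange
import Groth.Agent.EtShLib.StrataTop

/-!
# Generated subgroups are minimal among immersed subgroups after base change
-/

set_option autoImplicit false
set_option backward.isDefEq.respectTransparency false

noncomputable section

universe u

open CategoryTheory CategoryTheory.Limits MonoidalCategory CartesianMonoidalCategory AlgebraicGeometry
open scoped MonObj

attribute [-instance] CategoryTheory.Hom.commGroup

namespace Groth.Agent.GenSub

variable {k : Type u} [Field k] {S : Scheme.{u}} (σ : S ⟶ Spec (CommRingCat.of k))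
  {G X Γ : Over (Spec (CommRingCat.of k))} [GrpObj G] [GrpObj Γ]
  {Γ' : Over S} [GrpObj Γ'] (i' : Γ' ⟶ (Over.pullback σ).obj G) [IsMonHom i']

omit [GrpObj Γ] in
/-- Words factor through a subgroup containing the base change of `f`. -/
theorem exists_map_word_factors (f : X ⟶ G) (f'' : (Over.pullback σ).obj X ⟶ Γ')
    (hf : f'' ≫ i' = (Over.pullback σ).map f) :
    ∀ l, ∃ z : (Over.pullback σ).obj (Word X l) ⟶ Γ', z ≫ i' = (Over.pullback σ).map (word f l)
  | [] => ⟨1, by
      rw [MonObj.one_comp]
      exact (map_one ((Over.pullback σ).homMonoidHom (X := Word X []) (M := G))).symm⟩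
  | b :: l => by
      obtain ⟨z, hz⟩ := exists_map_word_factors f f'' hf l
      obtain ⟨a, ha⟩ : ∃ a : (Over.pullback σ).obj X ⟶ Γ', a ≫ i' = (Over.pullback σ).map (letter f b) := by
        cases b
        · exact ⟨f''⁻¹, by
            rw [GrpObj.inv_comp, hf]
            exact (map_inv ((Over.pullback σ).homMonoidHom (X := X) (M := G)) f).symm⟩
        · exact ⟨f'', hf⟩
      refine ⟨((Over.pullback σ).map (fst X (Word X l)) ≫ a) * ((Over.pullback σ).map (snd X (Word X l)) ≫ z), ?_⟩
      rw [MonObj.mul_comp, Category.assoc, Category.assoc, ha, hz, ← Functor.map_comp, ← Functor.map_comp]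
      exact (map_mul ((Over.pullback σ).homMonoidHom (X := X ⊗ Word X l) (M := G)) _ _).symm

/-- The canonical section over `S` of the base change of a `k`-scheme mapping to `S`. -/
def secMap (Y : Over (Spec (CommRingCat.of k))) (ys : Y.left ⟶ S) (hys : ys ≫ σ = Y.hom) :
    Over.mk ys ⟶ (Over.pullback σ).obj Y :=
  Over.homMk (pullback.lift (𝟙 Y.left) ys ((Category.id_comp _).trans hys.symm)) (pullback.lift_snd _ _ _)

omit [GrpObj G] [GrpObj Γ] in
theorem secMap_map (Y : Over (Spec (CommRingCat.of k))) (ys : Y.left ⟶ S) (hys : ys ≫ σ = Y.hom) (q : Y ⟶ Γ) :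
    (secMap σ Y ys hys ≫ (Over.pullback σ).map q).left = pullback.lift q.left ys ((Over.w q).trans hys.symm) := by
  simp only [secMap, Over.comp_left, Over.homMk_left, Over.pullback_map_left]
  refine pullback.hom_ext ?_ ?_
  · rw [Category.assoc, pullback.lift_fst, pullback.lift_fst_assoc]
    exact (Category.id_comp _).trans (pullback.lift_fst _ _ _).symm
  · rw [Category.assoc, pullback.lift_snd, pullback.lift_snd, pullback.lift_snd]

omit [GrpObj Γ] in
theorem secMap_mul {Y : Over (Spec (CommRingCat.of k))} (ys : Y.left ⟶ S) (hys : ys ≫ σ = Y.hom)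
    (a b : Y ⟶ G) (z₁ z₂ : Over.mk ys ⟶ Γ') (h₁ : z₁ ≫ i' = secMap σ Y ys hys ≫ (Over.pullback σ).map a)
    (h₂ : z₂ ≫ i' = secMap σ Y ys hys ≫ (Over.pullback σ).map b) :
    (z₂ * z₁) ≫ i' = secMap σ Y ys hys ≫ (Over.pullback σ).map (b * a) := by
  rw [MonObj.mul_comp, h₁, h₂, ← MonObj.comp_mul]
  exact congrArg (secMap σ Y ys hys ≫ ·) (map_mul ((Over.pullback σ).homMonoidHom (X := Y) (M := G)) b a).symm

variable (i : Γ ⟶ G)

/-- The part of the base change of `Γ` inside the subgroup. -/
abbrev inter : pullback i'.left ((Over.pullback σ).map i).left ⟶ ((Over.pullback σ).obj Γ).left :=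
  pullback.snd i'.left ((Over.pullback σ).map i).left

omit [GrpObj Γ] in
/-- Reduced schemes mapping into the intersection lift to the subgroup. -/
theorem exists_lift_point [IsImmersion i'.left] {Y : Over (Spec (CommRingCat.of k))} [AlgebraicGeometry.IsReduced Y.left]
    (ys : Y.left ⟶ S) (hys : ys ≫ σ = Y.hom) (q : Y ⟶ Γ)
    (hq : ∀ y, (secMap σ Y ys hys ≫ (Over.pullback σ).map q).left.base y ∈ Set.range (inter σ i' i).base) :
    ∃ z : Over.mk ys ⟶ Γ', z ≫ i' = secMap σ Y ys hys ≫ (Over.pullback σ).map (q ≫ i) := by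
  haveI : IsImmersion (inter σ i' i) := MorphismProperty.pullback_snd _ _ inferInstance
  haveI : AlgebraicGeometry.IsReduced (Over.mk ys).left := ‹AlgebraicGeometry.IsReduced Y.left›
  obtain ⟨l, hl⟩ := Groth.Agent.EtShLib.exists_lift_immersion (inter σ i' i)
    (secMap σ Y ys hys ≫ (Over.pullback σ).map q).left (by rintro _ ⟨y, rfl⟩; exact hq y)
  have e : (l ≫ pullback.fst i'.left ((Over.pullback σ).map i).left) ≫ i'.left =
      (secMap σ Y ys hys ≫ (Over.pullback σ).map (q ≫ i)).left := by
    rw [Category.assoc, pullback.condition, ← Category.assoc, hl, Functor.map_comp, ← Over.comp_left,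
      Category.assoc]
  exact ⟨Over.homMk (l ≫ pullback.fst i'.left ((Over.pullback σ).map i).left) (by
    conv_lhs => rw [← Over.w i']
    rw [← Category.assoc, e]
    exact Over.w _), Over.OverMorphism.ext e⟩

/-- The intersection is everything set-theoretically when it contains a dense family. -/
theorem surjective_inter [IsImmersion i'.left] [IsMonHom i] {σ₀ : Type u} {W : σ₀ → Over (Spec (CommRingCat.of k))}
    (v : ∀ a, W a ⟶ Γ) (hd : Dense (⋃ a, Set.range (v a).left.base))
    (hmem : ∀ (a : σ₀) (w : ((Over.pullback σ).obj (W a)).left),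
      ((Over.pullback σ).map (v a)).left.base w ∈ Set.range (inter σ i' i).base) :
    Surjective (inter σ i' i) := by
  refine ⟨fun x => ?_⟩
  let Ω := ((Over.pullback σ).obj Γ).left.residueField x
  let e₀ : Spec Ω ⟶ ((Over.pullback σ).obj Γ).left := ((Over.pullback σ).obj Γ).left.fromSpecResidueField x
  let ξ : Spec Ω ⟶ S := e₀ ≫ pullback.snd Γ.hom σ
  let T : Over (Spec (CommRingCat.of k)) := Over.mk (ξ ≫ σ)
  let p : T ⟶ Γ := Over.homMk (e₀ ≫ pullback.fst Γ.hom σ) (by
    show (e₀ ≫ pullback.fst Γ.hom σ) ≫ Γ.hom = ξ ≫ σ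
    simp only [ξ, Category.assoc, pullback.condition])
  have hm : (fst Γ T).left ≫ Γ.hom = ((snd Γ T).left ≫ ξ) ≫ σ := by
    rw [Over.w (fst Γ T), Category.assoc]; exact (Over.w (snd Γ T)).symm
  let m : (Γ ⊗ T).left ⟶ ((Over.pullback σ).obj Γ).left := pullback.lift (fst Γ T).left ((snd Γ T).left ≫ ξ) hm
  let U : Set (Γ ⊗ T).left := m.base ⁻¹' Set.range (inter σ i' i).base
  have hdense : Dense U := by
    haveI : UniversallyOpen T.hom := inferInstance
    haveI : UniversallyOpen (fst Γ T).left := by rw [Over.fst_left]; infer_instance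
    refine (hd.preimage (fst Γ T).left.isOpenMap).mono ?_
    rw [Set.preimage_iUnion]
    refine Set.iUnion_subset fun a => ?_
    rintro q ⟨w, hwq⟩
    obtain ⟨q', hq', -⟩ := Scheme.exists_preimage_of_isPullback
      (isPullback_whiskerRight_left (Y := T) (v a)) q w hwq.symm
    let d : (W a ⊗ T).left ⟶ ((Over.pullback σ).obj (W a)).left :=
      pullback.lift (fst (W a) T).left ((snd (W a) T).left ≫ ξ) (by
        rw [Over.w (fst (W a) T), Category.assoc]; exact (Over.w (snd (W a) T)).symm)
    have e : (v a ▷ T).left ≫ m = d ≫ ((Over.pullback σ).map (v a)).left := by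
      simp only [Over.pullback_map_left, m, d]
      refine pullback.hom_ext ?_ ?_
      · rw [Category.assoc, pullback.lift_fst, Category.assoc, pullback.lift_fst, pullback.lift_fst_assoc,
          ← Over.comp_left, whiskerRight_fst, Over.comp_left]
      · rw [Category.assoc, pullback.lift_snd, Category.assoc, pullback.lift_snd, pullback.lift_snd,
          ← Category.assoc, ← Over.comp_left, whiskerRight_snd]
    show m.base q ∈ Set.range (inter σ i' i).base
    rw [← hq', ← Scheme.Hom.comp_apply, e, Scheme.Hom.comp_apply]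
    exact hmem _ _
  have hopen : IsOpen U := by
    haveI : IsImmersion (inter σ i' i) := MorphismProperty.pullback_snd _ _ inferInstance
    obtain ⟨O, C, hO, hC, hU⟩ : IsLocallyClosed U :=
      (inter σ i' i).isLocallyClosed_range.preimage m.continuous
    have hsub : (Set.univ : Set (Γ ⊗ T).left) ⊆ C := by
      rw [← hdense.closure_eq, hU]
      exact closure_minimal Set.inter_subset_right hC
    rw [hU, Set.inter_eq_left.2 (fun z _ => hsub (Set.mem_univ z))]
    exact hO
  let ψ : Γ ⊗ T ⟶ Γ := (snd Γ T ≫ p) * (fst Γ T)⁻¹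
  let χ : Γ ⊗ T ≅ Γ ⊗ T :=
  { hom := lift ψ (snd Γ T)
    inv := lift ((fst Γ T)⁻¹ * (snd Γ T ≫ p)) (snd Γ T)
    hom_inv_id := CartesianMonoidalCategory.hom_ext _ _ (by simp [ψ, MonObj.comp_mul, GrpObj.comp_inv]) (by simp)
    inv_hom_id := CartesianMonoidalCategory.hom_ext _ _ (by simp [ψ, MonObj.comp_mul, GrpObj.comp_inv]) (by simp) }
  haveI : IsIso χ.hom.left := ((Over.forget _).mapIso χ).isIso_hom
  obtain ⟨u, hu, -⟩ := hdense.exists_mem_open isOpen_univ
    ⟨(lift p (𝟙 T)).left.base (IsLocalRing.closedPoint Ω), trivial⟩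
  obtain ⟨u', hu'⟩ := χ.hom.left.surjective u
  obtain ⟨θ, hθ₂, hθ₁⟩ := hdense.exists_mem_open (hopen.preimage χ.hom.left.continuous)
    ⟨u', show χ.hom.left.base u' ∈ U from hu'.symm ▸ hu⟩
  let Y : Over (Spec (CommRingCat.of k)) := Over.mk ((Γ ⊗ T).left.fromSpecResidueField θ ≫ (Γ ⊗ T).hom)
  let y : Y ⟶ Γ ⊗ T := Over.homMk ((Γ ⊗ T).left.fromSpecResidueField θ) rfl
  haveI : AlgebraicGeometry.IsReduced Y.left :=
    inferInstanceAs (AlgebraicGeometry.IsReduced (Spec ((Γ ⊗ T).left.residueField θ)))
  let ys : Y.left ⟶ S := (y ≫ snd Γ T).left ≫ ξ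
  have hys : ys ≫ σ = Y.hom := by
    simp only [ys, Category.assoc]
    exact Over.w (y ≫ snd Γ T)
  have hy : ∀ a, y.left.base a = θ := fun a => Scheme.fromSpecResidueField_apply _ _
  have hQ : ∀ (q : Y ⟶ Γ ⊗ T), q ≫ snd Γ T = y ≫ snd Γ T → (∀ a, q.left.base a ∈ U) →
      ∃ z : Over.mk ys ⟶ Γ', z ≫ i' = secMap σ Y ys hys ≫ (Over.pullback σ).map ((q ≫ fst Γ T) ≫ i) := by
    intro q hq₂ hqU
    refine exists_lift_point σ i' i ys hys _ fun a => ?_
    have e : (secMap σ Y ys hys ≫ (Over.pullback σ).map (q ≫ fst Γ T)).left = q.left ≫ m := by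
      rw [secMap_map]
      refine pullback.hom_ext ?_ ?_
      · rw [pullback.lift_fst, Category.assoc, pullback.lift_fst, Over.comp_left]
      · rw [pullback.lift_snd, Category.assoc, pullback.lift_snd, ← Category.assoc, ← Over.comp_left, hq₂]
    rw [e, Scheme.Hom.comp_apply]
    exact hqU a
  obtain ⟨z₁, hz₁⟩ := hQ y rfl fun a => by rw [hy]; exact hθ₂
  obtain ⟨z₂, hz₂⟩ := hQ (y ≫ χ.hom) (by simp [χ]) fun a => by
    rw [Over.comp_left, Scheme.Hom.comp_apply, hy]; exact hθ₁
  have hsum : ((y ≫ χ.hom) ≫ fst Γ T) ≫ i * ((y ≫ fst Γ T) ≫ i) = (y ≫ snd Γ T ≫ p) ≫ i := by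
    rw [← MonObj.mul_comp]
    refine congrArg (· ≫ i) ?_
    simp [χ, ψ, MonObj.comp_mul, GrpObj.comp_inv]
  have hprod := secMap_mul σ i' ys hys _ _ z₁ z₂ hz₁ hz₂
  rw [hsum] at hprod
  have e1 : (z₂ * z₁).left ≫ i'.left =
      (secMap σ Y ys hys ≫ (Over.pullback σ).map (y ≫ snd Γ T ≫ p)).left ≫ ((Over.pullback σ).map i).left := by
    rw [← Over.comp_left, ← Over.comp_left, hprod, Category.assoc (secMap σ Y ys hys), ← Functor.map_comp]
  have e2 : (secMap σ Y ys hys ≫ (Over.pullback σ).map (y ≫ snd Γ T ≫ p)).left = (y ≫ snd Γ T).left ≫ e₀ := by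
    rw [secMap_map]
    refine pullback.hom_ext ?_ ?_
    · rw [pullback.lift_fst]
      simp only [Over.comp_left, Category.assoc, p, Over.homMk_left]
    · rw [pullback.lift_snd]
      simp only [ys, ξ, Category.assoc]
  refine ⟨(pullback.lift (z₂ * z₁).left _ e1).base (IsLocalRing.closedPoint ((Γ ⊗ T).left.residueField θ)), ?_⟩
  rw [← Scheme.Hom.comp_apply, pullback.lift_snd, e2, Scheme.Hom.comp_apply]
  exact Scheme.fromSpecResidueField_apply _ _

/-- The intersection contains the image of a morphism factoring through the subgroup. -/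
theorem mem_range_inter {W : Over (Spec (CommRingCat.of k))} (v : W ⟶ Γ)
    (z : (Over.pullback σ).obj W ⟶ Γ') (hz : z ≫ i' = (Over.pullback σ).map (v ≫ i))
    (w : ((Over.pullback σ).obj W).left) :
    ((Over.pullback σ).map v).left.base w ∈ Set.range (inter σ i' i).base := by
  have e : z.left ≫ i'.left = ((Over.pullback σ).map v).left ≫ ((Over.pullback σ).map i).left := by
    rw [← Over.comp_left, ← Over.comp_left, hz, ← Functor.map_comp]
  exact ⟨(pullback.lift z.left ((Over.pullback σ).map v).left e).base w, by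
    rw [← Scheme.Hom.comp_apply, pullback.lift_snd]⟩

/-- The intersection is everything when it contains a dense family. -/
theorem factors_of_dense [IsImmersion i'.left] [IsMonHom i] [AlgebraicGeometry.IsReduced Γ.left]
    {σ₀ : Type u} {W : σ₀ → Over (Spec (CommRingCat.of k))} (v : ∀ a, W a ⟶ Γ)
    (hd : Dense (⋃ a, Set.range (v a).left.base))
    (hz : ∀ a, ∃ z : (Over.pullback σ).obj (W a) ⟶ Γ', z ≫ i' = (Over.pullback σ).map (v a ≫ i)) :
    ∃ j : (Over.pullback σ).obj Γ ⟶ Γ', j ≫ i' = (Over.pullback σ).map i := by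
  choose z hz using hz
  haveI : IsImmersion (inter σ i' i) := MorphismProperty.pullback_snd _ _ inferInstance
  haveI := surjective_inter σ i' i v hd fun a w => mem_range_inter σ i' i (v a) (z a) (hz a) w
  haveI : IsClosedImmersion (inter σ i' i) := IsClosedImmersion.of_isPreimmersion _ (by
    rw [(inter σ i' i).surjective.range_eq]; exact isClosed_univ)
  haveI : IsIso (inter σ i' i ≫ (pullbackSymmetry Γ.hom σ).hom) := by
    refine isIso_of_family σ Γ.hom (fun a => (v a).left) hd _ fun a Y p w e => ?_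
    have hzl : (z a).left ≫ i'.left = ((Over.pullback σ).map (v a)).left ≫ ((Over.pullback σ).map i).left := by
      rw [← Over.comp_left, ← Over.comp_left, hz, ← Functor.map_comp]
    let d : Y ⟶ ((Over.pullback σ).obj (W a)).left := pullback.lift w p (by
      rw [← Over.w (v a), ← Category.assoc]; exact e.symm)
    refine ⟨d ≫ pullback.lift (z a).left ((Over.pullback σ).map (v a)).left hzl, ?_⟩
    rw [Category.assoc, pullback.lift_snd_assoc]
    simp only [d, Over.pullback_map_left]
    refine pullback.hom_ext ?_ ?_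
    · simp only [Category.assoc, pullbackSymmetry_hom_comp_fst, pullback.lift_fst, pullback.lift_snd]
    · simp only [Category.assoc, pullbackSymmetry_hom_comp_snd, pullback.lift_fst, pullback.lift_snd]
      rw [pullback.lift_fst_assoc]
  haveI : IsIso (inter σ i' i) := IsIso.of_isIso_comp_right _ (pullbackSymmetry Γ.hom σ).hom
  have e0 : (inv (inter σ i' i) ≫ pullback.fst i'.left ((Over.pullback σ).map i).left) ≫ i'.left =
      ((Over.pullback σ).map i).left := by
    rw [Category.assoc, pullback.condition, ← Category.assoc, IsIso.inv_hom_id, Category.id_comp]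
  exact ⟨Over.homMk (inv (inter σ i' i) ≫ pullback.fst i'.left ((Over.pullback σ).map i).left) (by
    conv_lhs => rw [← Over.w i']
    rw [← Category.assoc, e0]
    exact Over.w _), Over.OverMorphism.ext e0⟩

end Groth.Agent.GenSub
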