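import Groth.Agent.GenSubLib.Tuples
import Groth.Agent.GenSubLib.Smallest
import Groth.Agent.S2500
import Mathlib.RingTheory.Ideal.KrullsHeightTheorem

/-!
# Words over an algebraically closed field: the maximal generalisation

For `X` of finite type such that every connected component has a rational point mapped to the unit,
some point in the image of one word generalises all points in the images of all words.
-/

set_option autoImplicit false
set_option backward.isDefEq.respectTransparency false

noncomputable section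

universe u

open CategoryTheory CategoryTheory.Limits MonoidalCategory CartesianMonoidalCategory AlgebraicGeometry
  TopologicalSpace MonObj

attribute [-instance] CategoryTheory.Hom.commGroup

namespace Groth.Agent.GenSub

/-- Among the generalisations of a point in a given set there is a maximal one. -/
theorem exists_max_generalisation {Y : Scheme.{u}} [IsLocallyNoetherian Y] (S : Set Y) (e : Y) (he : e ∈ S) :
    ∃ θ ∈ S, θ ⤳ e ∧ ∀ y ∈ S, y ⤳ θ → y = θ := by
  classical
  have hp : ∀ y ∈ {y | y ∈ S ∧ y ⤳ e}, ∃ p : PrimeSpectrum (Y.presheaf.stalk e), (Y.fromSpecStalk e).base p = y := by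
    rintro y ⟨-, hy⟩
    exact Scheme.range_fromSpecStalk.symm.le hy
  choose! q hq using hp
  obtain ⟨θ, ⟨hθ, hηe⟩, hmin⟩ := WellFounded.has_min
    (InvImage.wf (fun y => (q y).asIdeal.height) wellFounded_lt) {y | y ∈ S ∧ y ⤳ e} ⟨e, he, specializes_rfl⟩
  refine ⟨θ, hθ, hηe, fun y hy hyθ => by_contra fun hne => hmin y ⟨hy, hyθ.trans hηe⟩ ?_⟩
  have h1 : q y ⤳ q θ := by
    rw [← (Y.fromSpecStalk e).isEmbedding.isInducing.specializes_iff, hq y ⟨hy, hyθ.trans hηe⟩, hq θ ⟨hθ, hηe⟩]
    exact hyθ
  have h2 : q y < q θ := by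
    refine lt_of_le_of_ne ((PrimeSpectrum.le_iff_specializes _ _).2 h1) fun heq => hne ?_
    rw [← hq y ⟨hy, hyθ.trans hηe⟩, ← hq θ ⟨hθ, hηe⟩, heq]
  exact Ideal.height_strict_mono_of_isPrime (I := (q y).asIdeal) (J := (q θ).asIdeal) h2

variable {k : Type u} [Field k] [IsAlgClosed k] {G X : Over (Spec (CommRingCat.of k))} [GrpObj G]
  [LocallyOfFiniteType G.hom] [LocallyOfFiniteType X.hom]

variable (G) in
/-- Right translation by a rational point. -/
def rtr (g : 𝟙_ (Over (Spec (CommRingCat.of k))) ⟶ G) : G ⟶ G := 𝟙 G * (toUnit G ≫ g)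

omit [IsAlgClosed k] [LocallyOfFiniteType G.hom] in
theorem comp_rtr (g : 𝟙_ (Over (Spec (CommRingCat.of k))) ⟶ G) {T : Over (Spec (CommRingCat.of k))} (y : T ⟶ G) :
    y ≫ rtr G g = y * (toUnit T ≫ g) := by
  rw [rtr, MonObj.comp_mul, Category.comp_id, comp_toUnit_assoc]

omit [IsAlgClosed k] [LocallyOfFiniteType G.hom] in
theorem rtr_one : rtr G 1 = 𝟙 G := by
  rw [rtr, MonObj.comp_one, _root_.mul_one]

omit [IsAlgClosed k] [LocallyOfFiniteType G.hom] in
theorem rtr_mul (g h : 𝟙_ (Over (Spec (CommRingCat.of k))) ⟶ G) : rtr G (g * h) = rtr G g ≫ rtr G h := by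
  rw [comp_rtr, rtr, rtr, MonObj.comp_mul, _root_.mul_assoc]

omit [IsAlgClosed k] in
/-- An irreducible closed subset underlies a scheme of finite type with irreducible space. -/
theorem exists_irreducible_sub (Y : Over (Spec (CommRingCat.of k))) [LocallyOfFiniteType Y.hom] (Z : Set Y.left)
    (hc : IsClosed Z) (hi : IsIrreducible Z) : ∃ (Z' : Over (Spec (CommRingCat.of k))) (c : Z' ⟶ Y),
      LocallyOfFiniteType Z'.hom ∧ IrreducibleSpace Z'.left ∧ Set.range c.left.base = Z := by
  let I := Scheme.IdealSheafData.vanishingIdeal (X := Y.left) ⟨Z, hc⟩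
  let Z' : Over (Spec (CommRingCat.of k)) := Over.mk (I.subschemeι ≫ Y.hom)
  let c : Z' ⟶ Y := Over.homMk I.subschemeι rfl
  have hr : Set.range c.left.base = Z :=
    (Scheme.IdealSheafData.range_subschemeι _).trans (Scheme.IdealSheafData.coe_support_vanishingIdeal _)
  refine ⟨Z', c, inferInstanceAs (LocallyOfFiniteType (I.subschemeι ≫ Y.hom)), ?_, hr⟩
  haveI : IrreducibleSpace Z := Subtype.irreducibleSpace hi
  haveI : IsClosedImmersion c.left := inferInstanceAs (IsClosedImmersion I.subschemeι)
  exact ((c.left.isClosedEmbedding.isEmbedding.toHomeomorph.trans (Homeomorph.setCongr hr)).irreducibleSpace_iff).2 ‹_›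

variable (f : X ⟶ G)

/-- Over an algebraically closed field, some word passes through a point generalising all points under words. -/
theorem exists_max_word [QuasiCompact X.hom]
    (hbase : ∀ x : X.left, ∃ y : 𝟙_ (Over (Spec (CommRingCat.of k))) ⟶ X,
      y ≫ f = 1 ∧ y.left.base (IsLocalRing.closedPoint k) ∈ connectedComponent x) :
    ∃ (l : List Bool) (w : (Word X l).left), wordSet f ⊆ closure {(word f l).left.base w} := by
  classical
  let e₀ : G.left := (1 : 𝟙_ (Over (Spec (CommRingCat.of k))) ⟶ G).left.base (IsLocalRing.closedPoint k)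
  have he₀ : e₀ ∈ wordSet f := by
    refine Set.mem_iUnion.2 ⟨⟨[]⟩, IsLocalRing.closedPoint k, ?_⟩
    rfl
  haveI : IsLocallyNoetherian G.left := LocallyOfFiniteType.isLocallyNoetherian G.hom
  obtain ⟨θ, hθ, hηe, hmax⟩ := exists_max_generalisation (wordSet f) e₀ he₀
  obtain ⟨⟨l⟩, w, rfl⟩ := Set.mem_iUnion.1 hθ
  refine ⟨l, w, ?_⟩
  let θ := (word f l).left.base w
  have hW : ∀ l, LocallyOfFiniteType (Word X l).hom := by
    intro l
    induction l with
    | nil => exact inferInstanceAs (LocallyOfFiniteType (𝟙 (Spec (CommRingCat.of k))))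
    | cons b l ih =>
      haveI := ih
      show LocallyOfFiniteType (Limits.pullback.fst X.hom (Word X l).hom ≫ X.hom)
      haveI : LocallyOfFiniteType (Limits.pullback.fst X.hom (Word X l).hom) :=
        MorphismProperty.pullback_fst _ _ inferInstance
      infer_instance
  haveI := hW l
  obtain ⟨W', cW, hW'ft, hW'irr, hcW⟩ :=
    exists_irreducible_sub (Word X l) (closure {w}) isClosed_closure isIrreducible_singleton.closure
  haveI := hW'ft; haveI := hW'irr
  obtain ⟨w', hw'⟩ : w ∈ Set.range cW.left.base := hcW.symm ▸ subset_closure rfl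
  -- the stabiliser of `θ`
  let St : Subgroup (𝟙_ (Over (Spec (CommRingCat.of k))) ⟶ G) :=
    { carrier := {g | (rtr G g).left.base θ = θ}
      one_mem' := by show (rtr G 1).left.base θ = θ; rw [rtr_one]; rfl
      mul_mem' := fun {g h} (hg : (rtr G g).left.base θ = θ) (hh : (rtr G h).left.base θ = θ) => by
        show (rtr G (g * h)).left.base θ = θ
        rw [rtr_mul]
        show (rtr G h).left.base ((rtr G g).left.base θ) = θ
        rw [hg, hh]
      inv_mem' := fun {g} (hg : (rtr G g).left.base θ = θ) => by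
        show (rtr G g⁻¹).left.base θ = θ
        calc (rtr G g⁻¹).left.base θ = (rtr G g⁻¹).left.base ((rtr G g).left.base θ) := by rw [hg]
          _ = (rtr G g ≫ rtr G g⁻¹).left.base θ := rfl
          _ = θ := by rw [← rtr_mul, mul_inv_cancel, rtr_one]; rfl }
  -- one good point makes an irreducible component good
  have key : ∀ D : Set X.left, IsClosed D → IsIrreducible D →
      ∀ y₀ : 𝟙_ (Over (Spec (CommRingCat.of k))) ⟶ X, y₀.left.base (IsLocalRing.closedPoint k) ∈ D → y₀ ≫ f ∈ St →
      ∀ y : 𝟙_ (Over (Spec (CommRingCat.of k))) ⟶ X, y.left.base (IsLocalRing.closedPoint k) ∈ D → y ≫ f ∈ St := by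
    intro D hDc hDi y₀ hy₀ hy₀S y hy
    obtain ⟨D', cD, hD'ft, hD'irr, hcD⟩ := exists_irreducible_sub X D hDc hDi
    haveI := hD'ft; haveI := hD'irr
    have hlift : ∀ y : 𝟙_ (Over (Spec (CommRingCat.of k))) ⟶ X, y.left.base (IsLocalRing.closedPoint k) ∈ D →
        ∃ z : 𝟙_ _ ⟶ D', z ≫ cD = y := fun y hy => by
      obtain ⟨d, hd⟩ := hcD.symm.le hy
      exact exists_lift_rational cD y (IsLocalRing.closedPoint k) d hd
    haveI : GeometricallyIrreducible D'.hom := Groth.Agent.S2500.result D'.hom
    haveI : UniversallyOpen D'.hom := inferInstance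
    haveI : IrreducibleSpace ↥(W' ⊗ D').left := inferInstanceAs (IrreducibleSpace ↥(pullback W'.hom D'.hom))
    have hb : ∀ b : Bool, θ ⤳ (rtr G (y ≫ letter f b)).left.base θ := by
      intro b
      obtain ⟨m, hm⟩ := exists_word_append f l [b]
      obtain ⟨s, hs⟩ := exists_eq_word f b
      let φ : W' ⊗ D' ⟶ G := ((cW ⊗ₘ (cD ≫ s)) ≫ m) ≫ word f (l ++ [b])
      have hφ : ∀ z : 𝟙_ (Over (Spec (CommRingCat.of k))) ⟶ D',
          lift (𝟙 W') (toUnit W' ≫ z) ≫ φ = (cW ≫ word f l) ≫ rtr G ((z ≫ cD) ≫ letter f b) := by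
        intro z
        simp only [φ, Category.assoc, hm, comp_rtr, MonObj.comp_mul, tensorHom_fst_assoc, tensorHom_snd_assoc,
          lift_fst_assoc, lift_snd_assoc, Category.id_comp, hs, comp_toUnit_assoc]
      have hpt : ∀ z : 𝟙_ (Over (Spec (CommRingCat.of k))) ⟶ D',
          (rtr G ((z ≫ cD) ≫ letter f b)).left.base θ ∈ Set.range φ.left.base := by
        intro z
        refine ⟨(lift (𝟙 W') (toUnit W' ≫ z)).left.base w', ?_⟩
        have := congr($(hφ z).left.base w')
        refine this.trans ?_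
        show (rtr G _).left.base ((word f l).left.base (cW.left.base w')) = _
        rw [hw']
      obtain ⟨z₀, hz₀⟩ := hlift y₀ hy₀
      have hb₀ : (rtr G (y₀ ≫ letter f b)).left.base θ = θ := by
        cases b
        · rw [show y₀ ≫ letter f false = (y₀ ≫ f)⁻¹ from GrpObj.comp_inv _ _]
          exact St.inv_mem hy₀S
        · exact hy₀S
      have h₀ : θ ∈ Set.range φ.left.base := by
        have h := hpt z₀
        rwa [hz₀, hb₀] at h
      let ζ := φ.left.base (genericPoint ↥(W' ⊗ D').left)
      have hζ : ∀ p ∈ Set.range φ.left.base, ζ ⤳ p := by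
        rintro _ ⟨p, rfl⟩
        exact (genericPoint_specializes p).map φ.left.continuous
      have hζmem : ζ ∈ wordSet f := range_subset_wordSet f (l ++ [b]) ((cW ⊗ₘ (cD ≫ s)) ≫ m) ⟨_, rfl⟩
      have hζθ : ζ = θ := hmax ζ hζmem (hζ θ h₀)
      obtain ⟨z, hz⟩ := hlift y hy
      have h1 := hζ _ (hpt z)
      rwa [hζθ, hz] at h1
    have h₁ : θ ⤳ (rtr G (y ≫ f)).left.base θ := hb true
    have h₂ : θ ⤳ (rtr G (y ≫ f)⁻¹).left.base θ := by
      have := hb false
      rwa [show y ≫ letter f false = (y ≫ f)⁻¹ from GrpObj.comp_inv _ _] at this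
    show (rtr G (y ≫ f)).left.base θ = θ
    refine (Specializes.antisymm ?_ h₁).eq
    have h3 := h₂.map (rtr G (y ≫ f)).left.continuous
    have e : (rtr G (y ≫ f)).left.base ((rtr G (y ≫ f)⁻¹).left.base θ) = θ := by
      show (rtr G (y ≫ f)⁻¹ ≫ rtr G (y ≫ f)).left.base θ = θ
      rw [← rtr_mul, inv_mul_cancel, rtr_one]; rfl
    rwa [e] at h3
  -- every rational point is good
  haveI : JacobsonSpace ↥X.left := LocallyOfFiniteType.jacobsonSpace X.hom
  haveI : IsLocallyNoetherian X.left := LocallyOfFiniteType.isLocallyNoetherian X.hom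
  haveI : CompactSpace X.left := QuasiCompact.compactSpace_of_compactSpace X.hom
  haveI : IsNoetherian X.left := { }
  have hfin : (irreducibleComponents X.left).Finite := NoetherianSpace.finite_irreducibleComponents
  have hgood : ∀ y : 𝟙_ (Over (Spec (CommRingCat.of k))) ⟶ X, y ≫ f ∈ St := by
    let good : Set X.left → Prop := fun D => ∃ y : 𝟙_ (Over (Spec (CommRingCat.of k))) ⟶ X,
      y.left.base (IsLocalRing.closedPoint k) ∈ D ∧ y ≫ f ∈ St
    let A : Set X.left := ⋃ D ∈ {D ∈ irreducibleComponents X.left | good D}, D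
    let B : Set X.left := ⋃ D ∈ {D ∈ irreducibleComponents X.left | ¬ good D}, D
    have hA : IsClosed A := (hfin.subset fun D h => h.1).isClosed_biUnion
      fun D h => isClosed_of_mem_irreducibleComponents D h.1
    have hB : IsClosed B := (hfin.subset fun D h => h.1).isClosed_biUnion
      fun D h => isClosed_of_mem_irreducibleComponents D h.1
    have hAB : A ∩ B = ∅ := by
      by_contra hne
      obtain ⟨p, hp, hpc⟩ := nonempty_inter_closedPoints (Z := A ∩ B) (Set.nonempty_iff_ne_empty.2 hne)
        (hA.inter hB).isLocallyClosed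
      obtain ⟨D, ⟨hD, y₀, hy₀, hy₀S⟩, hpD⟩ := Set.mem_iUnion₂.1 hp.1
      obtain ⟨D₂, ⟨-, hbad⟩, hpD₂⟩ := Set.mem_iUnion₂.1 hp.2
      let y : 𝟙_ (Over (Spec (CommRingCat.of k))) ⟶ X :=
        Over.homMk (pointOfClosedPoint X.hom p hpc) (pointOfClosedPoint_comp _ p hpc)
      have hy : y.left.base (IsLocalRing.closedPoint k) = p := pointOfClosedPoint_apply _ p hpc _
      exact hbad ⟨y, hy ▸ hpD₂, key D (isClosed_of_mem_irreducibleComponents D hD) hD.1 y₀ hy₀ hy₀S y (hy ▸ hpD)⟩
    have hu : A ∪ B = Set.univ := by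
      refine Set.eq_univ_of_forall fun p => ?_
      by_cases hg : good (irreducibleComponent p)
      · exact Or.inl (Set.mem_biUnion ⟨irreducibleComponent_mem_irreducibleComponents p, hg⟩ mem_irreducibleComponent)
      · exact Or.inr (Set.mem_biUnion ⟨irreducibleComponent_mem_irreducibleComponents p, hg⟩ mem_irreducibleComponent)
    have hAo : IsOpen A := by
      have e : A = Bᶜ := Set.Subset.antisymm (fun p hp hp' => hAB.le ⟨hp, hp'⟩)
        (fun p hp => (hu.ge (Set.mem_univ p)).resolve_right hp)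
      rw [e]; exact hB.isOpen_compl
    have hAu : A = Set.univ := by
      refine Set.eq_univ_of_forall fun x => ?_
      obtain ⟨y₀, hy₀f, hy₀x⟩ := hbase x
      have hy₀A : y₀.left.base (IsLocalRing.closedPoint k) ∈ A :=
        Set.mem_biUnion (x := irreducibleComponent (y₀.left.base (IsLocalRing.closedPoint k)))
          ⟨irreducibleComponent_mem_irreducibleComponents _, y₀, mem_irreducibleComponent, by
            rw [hy₀f]; exact St.one_mem⟩ mem_irreducibleComponent
      refine IsClopen.connectedComponent_subset ⟨hA, hAo⟩ hy₀A ?_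
      rw [← connectedComponent_eq hy₀x]
      exact mem_connectedComponent
    intro y
    obtain ⟨D, ⟨hD, y₀, hy₀, hy₀S⟩, hyD⟩ := Set.mem_iUnion₂.1 (hAu.ge (Set.mem_univ (y.left.base (IsLocalRing.closedPoint k))))
    exact key D (isClosed_of_mem_irreducibleComponents D hD) hD.1 y₀ hy₀ hy₀S y hyD
  -- every word lands in the closure of `θ`
  refine Set.iUnion_subset fun l' => ?_
  haveI := hW l'.down
  haveI : JacobsonSpace ↥(Word X l'.down).left := LocallyOfFiniteType.jacobsonSpace (Word X l'.down).hom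
  by_contra hne
  obtain ⟨_, ⟨p, rfl⟩, hp⟩ := Set.not_subset.1 hne
  obtain ⟨q, hq, hqc⟩ := nonempty_inter_closedPoints (Z := (word f l'.down).left.base ⁻¹' (closure {θ})ᶜ)
    ⟨p, hp⟩ (isClosed_closure.isOpen_compl.preimage (word f l'.down).left.continuous).isLocallyClosed
  let z : 𝟙_ (Over (Spec (CommRingCat.of k))) ⟶ Word X l'.down :=
    Over.homMk (pointOfClosedPoint (Word X l'.down).hom q hqc) (pointOfClosedPoint_comp _ q hqc)
  have hzS : ∀ (l : List Bool) (z : 𝟙_ (Over (Spec (CommRingCat.of k))) ⟶ Word X l), z ≫ word f l ∈ St := by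
    intro l
    induction l with
    | nil => intro z; rw [show z ≫ word f [] = 1 from MonObj.comp_one _]; exact St.one_mem
    | cons b l ih =>
      intro z
      rw [show z ≫ word f (b :: l) = (z ≫ fst X (Word X l) ≫ letter f b) * (z ≫ snd X (Word X l) ≫ word f l) from
        MonObj.comp_mul _ _ _]
      refine St.mul_mem ?_ (by rw [← Category.assoc]; exact ih _)
      rw [← Category.assoc, letter_comp]
      cases b
      · exact St.inv_mem (hgood _)
      · exact hgood _
  have hS : (rtr G (z ≫ word f l'.down)).left.base θ = θ := hzS _ z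
  have he : (rtr G (z ≫ word f l'.down)).left.base e₀ = (z ≫ word f l'.down).left.base (IsLocalRing.closedPoint k) := by
    show (1 ≫ rtr G (z ≫ word f l'.down) : 𝟙_ _ ⟶ G).left.base _ = _
    rw [comp_rtr, _root_.one_mul, toUnit_unique (toUnit (𝟙_ _)) (𝟙 _), Category.id_comp]
  apply hq
  have h := hηe.map (rtr G (z ≫ word f l'.down)).left.continuous
  rw [hS, he] at h
  show (word f l'.down).left.base q ∈ closure {θ}
  have hzq : z.left.base (IsLocalRing.closedPoint k) = q := pointOfClosedPoint_apply _ q hqc _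
  rw [← hzq]
  exact specializes_iff_mem_closure.1 h

end Groth.Agent.GenSub
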