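import Groth.Agent.GeomRedFieldLib.Scheme
import Mathlib.LinearAlgebra.TensorProduct.Basis

/-!
# Geometrically reduced schemes: products and dense families

Over a field, the product of a geometrically reduced scheme and a reduced scheme is reduced, and a
reduced scheme with a dense family of morphisms from geometrically reduced schemes is geometrically
reduced.
-/

set_option autoImplicit false
set_option backward.isDefEq.respectTransparency false

universe u

open CategoryTheory CategoryTheory.Limits AlgebraicGeometry TensorProduct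

namespace Groth.Agent.GenSub

variable {k : Type u} [Field k]

/-- Tensoring over a field preserves jointly injective families of linear maps. -/
theorem eq_zero_of_forall_lTensor {M A : Type u} [AddCommGroup M] [Module k M] [AddCommGroup A] [Module k A]
    {σ : Type*} {B : σ → Type u} [∀ i, AddCommGroup (B i)] [∀ i, Module k (B i)] (φ : ∀ i, A →ₗ[k] B i)
    (hinj : ∀ a, (∀ i, φ i a = 0) → a = 0) (z : M ⊗[k] A) (hz : ∀ i, (φ i).lTensor M z = 0) : z = 0 := by
  classical
  let β := Module.Free.chooseBasis k M
  apply (TensorProduct.equivFinsuppOfBasisLeft (N := A) β).injective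
  rw [map_zero]
  refine Finsupp.ext fun c => hinj _ fun i => ?_
  have hnat : ∀ w : M ⊗[k] A, (TensorProduct.equivFinsuppOfBasisLeft β) ((φ i).lTensor M w) c =
      φ i ((TensorProduct.equivFinsuppOfBasisLeft β) w c) := by
    intro w
    induction w using TensorProduct.induction_on with
    | zero => simp
    | add x y hx hy => simp [map_add, hx, hy]
    | tmul a b =>
      rw [LinearMap.lTensor_tmul, TensorProduct.equivFinsuppOfBasisLeft_apply_tmul_apply,
        TensorProduct.equivFinsuppOfBasisLeft_apply_tmul_apply, map_smul]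
  have h := hnat z
  rw [hz i, map_zero] at h
  exact h.symm

/-- A geometrically reduced algebra stays reduced after tensoring with a reduced algebra. -/
theorem isReduced_tensor_reduced (A B : Type u) [CommRing A] [Algebra k A] [Algebra.IsGeometricallyReduced k A]
    [CommRing B] [Algebra k B] [_root_.IsReduced B] : _root_.IsReduced (A ⊗[k] B) := by
  refine ⟨fun z hz => ?_⟩
  refine eq_zero_of_forall_lTensor (σ := PrimeSpectrum B) (B := fun p => p.asIdeal.ResidueField)
    (fun p => (IsScalarTower.toAlgHom k B p.asIdeal.ResidueField).toLinearMap) (fun b hb => ?_) z fun p => ?_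
  · refine (nilpotent_iff_mem_prime.2 fun P hP => ?_).eq_zero
    exact Ideal.algebraMap_residueField_eq_zero.1 (hb ⟨P, hP⟩)
  · haveI := GeomRedFieldLib.isReduced_tensor_geomRed (k := k) A p.asIdeal.ResidueField
    exact (hz.map (Algebra.TensorProduct.map (AlgHom.id k A)
      (IsScalarTower.toAlgHom k B p.asIdeal.ResidueField))).eq_zero

/-- An algebra mapping injectively to a family of geometrically reduced ones is geometrically reduced. -/
theorem isGeometricallyReduced_of_family (T : Type u) [CommRing T] [Algebra k T] {σ : Type*} (S : σ → Type u)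
    [∀ i, CommRing (S i)] [∀ i, Algebra k (S i)] [∀ i, Algebra.IsGeometricallyReduced k (S i)]
    (φ : ∀ i, T →ₐ[k] S i) (hinj : ∀ t, (∀ i, φ i t = 0) → t = 0) : Algebra.IsGeometricallyReduced k T := by
  rw [Algebra.isGeometricallyReduced_field_iff]
  refine ⟨fun z hz => eq_zero_of_forall_lTensor (fun i => (φ i).toLinearMap) hinj z fun i => ?_⟩
  haveI : _root_.IsReduced (AlgebraicClosure k ⊗[k] S i) :=
    (Algebra.isGeometricallyReduced_field_iff k (S i)).mp inferInstance
  exact (hz.map (Algebra.TensorProduct.map (AlgHom.id k (AlgebraicClosure k)) (φ i))).eq_zero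

/-- A geometrically reduced scheme over a field is reduced. -/
theorem isReduced_of_gr {X : Scheme.{u}} (f : X ⟶ Spec (CommRingCat.of k)) [GeometricallyReduced f] :
    AlgebraicGeometry.IsReduced X := by
  haveI : AlgebraicGeometry.IsReduced (pullback f (𝟙 (Spec (CommRingCat.of k)))) :=
    GeometricallyReduced.geometrically_isReduced (f := f) (K := k) (𝟙 _) _ _ (IsPullback.of_hasPullback f (𝟙 _))
  exact isReduced_of_isOpenImmersion (inv (pullback.fst f (𝟙 (Spec (CommRingCat.of k)))))

/-- The base change of a reduced scheme by a geometrically reduced one is reduced. -/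
theorem isReduced_pullback_of_gr {X Z : Scheme.{u}} (f : X ⟶ Spec (CommRingCat.of k)) [GeometricallyReduced f]
    (g : Z ⟶ Spec (CommRingCat.of k)) [AlgebraicGeometry.IsReduced Z] :
    AlgebraicGeometry.IsReduced (pullback f g) := by
  apply +allowSynthFailures @IsReduced.of_openCover
    (𝒰 := Scheme.Pullback.openCoverOfLeftRight (X.openCoverOfIsOpenCover _ (iSup_affineOpens_eq_top X))
      (Z.openCoverOfIsOpenCover _ (iSup_affineOpens_eq_top Z)) f g)
  rintro ⟨U, V⟩
  show AlgebraicGeometry.IsReduced (pullback (U.1.ι ≫ f) (V.1.ι ≫ g))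
  obtain ⟨T, _, _, a, _, ha, hag⟩ := GeomRedFieldLib.exists_algebra f U.2
  obtain ⟨S, _, _, b, _, hb, hbg⟩ := GeomRedFieldLib.exists_algebra g V.2
  haveI := GeomRedFieldLib.isGeometricallyReduced_chart f a hag
  haveI : _root_.IsReduced S := by
    haveI := isReduced_of_isOpenImmersion b
    exact (affine_isReduced_iff (CommRingCat.of S)).mp inferInstance
  haveI := isReduced_tensor_reduced (k := k) T S
  let ea := IsOpenImmersion.isoOfRangeEq U.1.ι a ((Scheme.Opens.range_ι _).trans ha.symm)
  let eb := IsOpenImmersion.isoOfRangeEq V.1.ι b ((Scheme.Opens.range_ι _).trans hb.symm)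
  let m : pullback (U.1.ι ≫ f) (V.1.ι ≫ g) ⟶ pullback (GeomRedFieldLib.str k T) (GeomRedFieldLib.str k S) :=
    pullback.map _ _ _ _ ea.hom eb.hom (𝟙 _)
      (by rw [Category.comp_id, ← hag]; simp [ea])
      (by rw [Category.comp_id, ← hbg]; simp [eb])
  exact isReduced_of_isOpenImmersion (m ≫ (pullbackSpecIso k T S).hom)

/-- Products of geometrically reduced schemes over a field are geometrically reduced. -/
theorem gr_prod {X Z : Scheme.{u}} (f : X ⟶ Spec (CommRingCat.of k)) [GeometricallyReduced f]
    (g : Z ⟶ Spec (CommRingCat.of k)) [GeometricallyReduced g] :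
    GeometricallyReduced (pullback.fst f g ≫ f) := by
  rw [pullback.condition]
  refine ⟨geometrically_iff_of_commRing_of_isClosedUnderIsomorphisms.mpr fun F _ _ => ?_⟩
  let ξ := Spec.map (CommRingCat.ofHom (algebraMap k F))
  haveI : AlgebraicGeometry.IsReduced (pullback g ξ) :=
    GeometricallyReduced.geometrically_isReduced (f := g) ξ _ _ (IsPullback.of_hasPullback g ξ)
  haveI := isReduced_pullback_of_gr f (pullback.fst g ξ ≫ g)
  exact isReduced_of_isOpenImmersion (pullbackAssoc f g g ξ).hom

/-- A reduced scheme with a dense family of morphisms from geometrically reduced schemes is geometrically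
reduced. -/
theorem gr_of_dense_family {Γ : Scheme.{u}} (h : Γ ⟶ Spec (CommRingCat.of k)) [AlgebraicGeometry.IsReduced Γ]
    {σ : Type u} {W : σ → Scheme.{u}} (v : ∀ i, W i ⟶ Γ) (hv : ∀ i, GeometricallyReduced (v i ≫ h))
    (hd : Dense (⋃ i, Set.range (v i))) : GeometricallyReduced h := by
  refine GeomRedFieldLib.gr_of_cover h (Γ.openCoverOfIsOpenCover _ (iSup_affineOpens_eq_top Γ)) fun U => ?_
  obtain ⟨T, _, _, g, _, hr, hg⟩ := GeomRedFieldLib.exists_algebra h U.2
  haveI : _root_.IsReduced T := by
    haveI := isReduced_of_isOpenImmersion g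
    exact (affine_isReduced_iff (CommRingCat.of T)).mp inferInstance
  let P := fun i => pullback g (v i)
  have hP : ∀ i, GeometricallyReduced (pullback.snd g (v i) ≫ v i ≫ h) := fun i =>
    haveI := hv i
    GeomRedFieldLib.gr_comp (v i ≫ h) (pullback.snd g (v i))
  haveI := hP
  choose S hS₁ hS₂ b hb₁ hb₂ hb₃ using fun (iV : Σ i, (P i).affineOpens) =>
    GeomRedFieldLib.exists_algebra (pullback.snd g (v iV.1) ≫ v iV.1 ≫ h) iV.2.2
  haveI := hb₁
  haveI : ∀ iV, Algebra.IsGeometricallyReduced k (S iV) := fun iV =>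
    GeomRedFieldLib.isGeometricallyReduced_chart (pullback.snd g (v iV.1) ≫ v iV.1 ≫ h) (b iV) (hb₃ iV)
  choose ψ hψ using fun iV => Spec.map_surjective (b iV ≫ pullback.fst g (v iV.1))
  let φ : ∀ iV, T →ₐ[k] S iV := fun iV =>
    { (ψ iV).hom with
      commutes' := fun c => by
        have e : CommRingCat.ofHom (algebraMap k T) ≫ ψ iV = CommRingCat.ofHom (algebraMap k (S iV)) := by
          apply Spec.map_injective
          rw [Spec.map_comp, hψ, Category.assoc]
          refine Eq.trans ?_ (hb₃ iV)
          rw [← pullback.condition_assoc, hg]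
        exact congr($(e).hom c) }
  haveI : Algebra.IsGeometricallyReduced k T := by
    refine isGeometricallyReduced_of_family T S φ fun t ht => ?_
    refine (nilpotent_iff_mem_prime.2 fun Q hQ => ?_).eq_zero
    by_contra hQt
    have hne : (g '' (PrimeSpectrum.basicOpen t : Set (PrimeSpectrum T))).Nonempty := ⟨g ⟨Q, hQ⟩, _, hQt, rfl⟩
    obtain ⟨x, hx, ⟨q, hq, hqx⟩⟩ := hd.exists_mem_open (g.isOpenEmbedding.isOpenMap _
      (PrimeSpectrum.basicOpen t).isOpen) hne
    obtain ⟨i, w, hw⟩ := Set.mem_iUnion.1 hx
    obtain ⟨p, hp, -⟩ := Scheme.Pullback.exists_preimage_pullback (f := g) (g := v i) q w (hqx.trans hw.symm)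
    obtain ⟨V, hV, hpV⟩ : ∃ V : (P i).Opens, IsAffineOpen V ∧ p ∈ V := by
      obtain ⟨V, hV, hpV, -⟩ := exists_isAffineOpen_mem_and_subset (X := P i) (x := p) (U := ⊤) trivial
      exact ⟨V, hV, hpV⟩
    obtain ⟨r, hr'⟩ : p ∈ Set.range (b ⟨i, V, hV⟩) := by rw [hb₂]; exact hpV
    apply hq
    have e : (Spec.map (ψ ⟨i, V, hV⟩)) r = q := by
      rw [hψ, Scheme.Hom.comp_apply, hr', hp]
    rw [← e]
    show φ ⟨i, V, hV⟩ t ∈ r.asIdeal
    rw [ht ⟨i, V, hV⟩]
    exact zero_mem _
  haveI := GeomRedFieldLib.gr_str (k := k) T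
  show GeometricallyReduced (U.1.ι ≫ h)
  rw [← IsOpenImmersion.isoOfRangeEq_inv_fac g U.1.ι (hr.trans (Scheme.Opens.range_ι _).symm), Category.assoc, hg]
  exact GeomRedFieldLib.gr_comp (GeomRedFieldLib.str k T) _

end Groth.Agent.GenSub
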