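import Groth.Agent.GenSubLib.Main

/-!
# Tuples of points and signed words

Products of signed values of `f` at tuples of `T`-valued points are the composites of `T`-valued points
of word schemes with the word morphisms; over an algebraically closed field the rational points lying
under words are the values of words at rational points.
-/

set_option autoImplicit false
set_option backward.isDefEq.respectTransparency false

noncomputable section

universe u

open CategoryTheory CategoryTheory.Limits MonoidalCategory CartesianMonoidalCategory AlgebraicGeometry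
  TopologicalSpace MonObj

attribute [-instance] CategoryTheory.Hom.commGroup

namespace Groth.Agent.GenSub

variable {k : Type u} [Field k] {G X : Over (Spec (CommRingCat.of k))} [GrpObj G] (f : X ⟶ G)

/-- The signed product of the values of `f` at a tuple of points. -/
def tupleProd {T : Over (Spec (CommRingCat.of k))} {n : ℕ} (x : Fin n → (T ⟶ X)) (e : Fin n → Bool) :
    T ⟶ G :=
  (List.ofFn fun j : Fin n => if e j then x j ≫ f else (x j ≫ f)⁻¹).prod

theorem letter_comp {T : Over (Spec (CommRingCat.of k))} (x : T ⟶ X) (b : Bool) :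
    x ≫ letter f b = if b then x ≫ f else (x ≫ f)⁻¹ := by
  cases b
  · simp [letter, GrpObj.comp_inv]
  · simp [letter]

/-- A signed product is a composite with a word. -/
theorem exists_tuple {T : Over (Spec (CommRingCat.of k))} : ∀ {n : ℕ} (x : Fin n → (T ⟶ X)) (e : Fin n → Bool),
    ∃ z : T ⟶ Word X (List.ofFn e), z ≫ word f (List.ofFn e) = tupleProd f x e
  | 0, x, e => by
      rw [List.ofFn_zero]
      exact ⟨toUnit T, by simp only [word, MonObj.comp_one]; simp [tupleProd]⟩
  | n + 1, x, e => by
      obtain ⟨z, hz⟩ := exists_tuple (fun j => x j.succ) (fun j => e j.succ)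
      rw [List.ofFn_succ]
      refine ⟨lift (x 0) z, ?_⟩
      show lift (x 0) z ≫ ((fst X _ ≫ letter f (e 0)) * (snd X _ ≫ word f _)) = _
      rw [MonObj.comp_mul, lift_fst_assoc, lift_snd_assoc, hz, letter_comp]
      simp only [tupleProd, List.ofFn_succ, List.prod_cons]

/-- A word is a signed product of a tuple of projections. -/
theorem exists_projections : ∀ l : List Bool, ∃ x : Fin l.length → (Word X l ⟶ X),
    tupleProd f x l.get = word f l
  | [] => ⟨Fin.elim0, by simp [tupleProd, word]⟩
  | b :: l => by
      obtain ⟨x, hx⟩ := exists_projections l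
      refine ⟨Fin.cases (fst X (Word X l)) (fun j => snd X (Word X l) ≫ x j), ?_⟩
      have key : ∀ (m : ℕ) (y : Fin m → (Word X l ⟶ X)) (e : Fin m → Bool),
          tupleProd f (fun j => snd X (Word X l) ≫ y j) e = snd X (Word X l) ≫ tupleProd f y e := by
        intro m
        induction m with
        | zero => intro y e; simp [tupleProd, MonObj.comp_one]
        | succ m ih =>
          intro y e
          have := ih (fun j => y j.succ) (fun j => e j.succ)
          simp only [tupleProd, List.ofFn_succ, List.prod_cons] at this ⊢
          rw [this, MonObj.comp_mul]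
          congr 1
          split_ifs <;> simp [GrpObj.comp_inv, Category.assoc]
      show _ = (fst X (Word X l) ≫ letter f b) * (snd X (Word X l) ≫ word f l)
      rw [← hx, ← key, letter_comp]
      simp only [tupleProd, List.length_cons, List.ofFn_succ, List.prod_cons]
      rfl

/-- The points lying under words of length `n`. -/
theorem lengthSet_eq (n : ℕ) :
    {g : G.left | ∃ (T : Over (Spec (CommRingCat.of k))) (p : T.left) (x : Fin n → (T ⟶ X)) (e : Fin n → Bool),
        (tupleProd f x e).left.base p = g} =
      ⋃ l ∈ {l : List Bool | l.length = n}, Set.range (word f l).left.base := by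
  refine Set.Subset.antisymm ?_ ?_
  · rintro _ ⟨T, p, x, e, rfl⟩
    obtain ⟨z, hz⟩ := exists_tuple f x e
    refine Set.mem_iUnion₂.2 ⟨List.ofFn e, List.length_ofFn, z.left.base p, ?_⟩
    rw [← hz]; rfl
  · refine Set.iUnion₂_subset fun l hl => ?_
    rintro _ ⟨w, rfl⟩
    obtain ⟨x, hx⟩ := exists_projections f l
    obtain rfl : l.length = n := hl
    exact ⟨_, w, x, l.get, by rw [hx]⟩

section AlgClosed

variable [IsAlgClosed k] [LocallyOfFiniteType G.hom]

omit [GrpObj G] in
/-- A rational point lying in the image of a morphism lifts to a rational point of its source. -/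
theorem exists_lift_rational {W : Over (Spec (CommRingCat.of k))} [LocallyOfFiniteType W.hom] (φ : W ⟶ G)
    (g : 𝟙_ (Over (Spec (CommRingCat.of k))) ⟶ G) (p₀ : (𝟙_ (Over (Spec (CommRingCat.of k)))).left) (w : W.left)
    (h : φ.left.base w = g.left.base p₀) : ∃ z : 𝟙_ (Over (Spec (CommRingCat.of k))) ⟶ W, z ≫ φ = g := by
  haveI : JacobsonSpace ↥W.left := LocallyOfFiniteType.jacobsonSpace W.hom
  obtain rfl : p₀ = IsLocalRing.closedPoint k := Subsingleton.elim (α := PrimeSpectrum k) _ _
  have hg : g.left ≫ G.hom = 𝟙 (Spec (CommRingCat.of k)) := Over.w g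
  have hcl : IsClosed ({g.left.base (IsLocalRing.closedPoint k)} : Set G.left) :=
    ((pointEquivClosedPoint G.hom) ⟨g.left, hg⟩).2
  obtain ⟨q, hq, hqc⟩ := nonempty_inter_closedPoints (Z := φ.left.base ⁻¹' {g.left.base (IsLocalRing.closedPoint k)})
    ⟨w, h⟩ (hcl.preimage φ.left.continuous).isLocallyClosed
  refine ⟨Over.homMk (pointOfClosedPoint W.hom q hqc) (pointOfClosedPoint_comp W.hom q hqc), Over.OverMorphism.ext ?_⟩
  refine ext_of_apply_closedPoint_eq G.hom ?_ hg ?_
  · exact (congrArg (· ≫ G.hom) (Over.comp_left _ _ _ _ _)).trans (Over.w (Over.homMk (U := 𝟙_ (Over (Spec (CommRingCat.of k))))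
      (pointOfClosedPoint W.hom q hqc) (pointOfClosedPoint_comp W.hom q hqc) ≫ φ))
  · show φ.left.base ((pointOfClosedPoint W.hom q hqc).base _) = _
    rw [pointOfClosedPoint_apply]
    exact hq

end AlgClosed

end Groth.Agent.GenSub
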